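import Groth.Agent.AnBasic.Closure

/-!
# The classical topology on affine pieces; immersions
-/

set_option autoImplicit false

open CategoryTheory AlgebraicGeometry Topology TopologicalSpace Filter
open An

namespace Groth.Agent.AnBasic

variable {X Y : Scheme.{0}} [X.Over An.SC] [Y.Over An.SC]

open Classical in
/-- The value of a section at a complex point (zero outside the domain). -/
noncomputable def evT (V : X.Opens) (b : Γ(X, V)) (c : Pts X) : ℂ :=
  if h : c.pt ∈ V then c.ev V h b else 0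

lemma evT_eq {V : X.Opens} {c : Pts X} (h : c.pt ∈ V) (b : Γ(X, V)) : evT V b c = c.ev V h b :=
  dif_pos h

lemma evT_eq_evHom {V : X.Opens} {c : Pts X} (h : c.pt ∈ V) (b : Γ(X, V)) :
    evT V b c = evHom c V h b := dif_pos h

lemma evT_map (g : X ⟶ Y) [g.IsOver SC] {V : Y.Opens} {W : X.Opens} (hW : W ≤ g ⁻¹ᵁ V) {c : Pts X}
    (h : c.pt ∈ W) (b : Γ(Y, V)) : evT V b (Pts.map g c) = evT W (g.appLE V W hW b) c := by
  have hV : (Pts.map g c).pt ∈ V := by rw [Pts.pt_map]; exact hW h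
  rw [evT_eq hV, evT_eq h, Pts.ev_map]
  change _ = c.ev W h (X.presheaf.map (homOfLE hW).op (g.app V b))
  rw [ev_res c hW h]

lemma tendsto_evT {V : X.Opens} (b : Γ(X, V)) {a : Pts X} (ha : a.pt ∈ V) :
    Tendsto (evT V b) (𝓝 a) (𝓝 (evT V b a)) := by
  rw [tendsto_nhds]
  intro O hO haO
  rw [evT_eq ha] at haO
  refine mem_of_superset ((Pts.isOpen_basicSet V b hO).mem_nhds ⟨ha, haO⟩) ?_
  rintro c ⟨hc, hcO⟩
  simpa [evT_eq hc] using hcO

lemma eventually_mem {V : X.Opens} {a : Pts X} (ha : a.pt ∈ V) : ∀ᶠ c in 𝓝 a, c.pt ∈ V :=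
  (Pts.isOpen_preimage_pt V).mem_nhds ha

/-- Convergence of complex points is detected on the coordinate ring of an affine open. -/
theorem tendsto_iff_evT {ι : Type*} {l : Filter ι} {an : ι → Pts X} {a : Pts X} {V : X.Opens}
    (hV : IsAffineOpen V) (ha : a.pt ∈ V) :
    Tendsto an l (𝓝 a) ↔ (∀ᶠ i in l, (an i).pt ∈ V) ∧
      ∀ b, Tendsto (fun i => evT V b (an i)) l (𝓝 (evT V b a)) := by
  refine ⟨fun h => ⟨h.eventually (eventually_mem ha), fun b => (tendsto_evT b ha).comp h⟩, ?_⟩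
  rintro ⟨han, hlim⟩
  refine TopologicalSpace.tendsto_nhds_generateFrom_iff.2 ?_
  rintro _ ⟨U, f, O, hO, rfl⟩ ⟨haU, haf⟩
  obtain ⟨s, hsU, has⟩ := hV.exists_basicOpen_le (V := U) ⟨a.pt, haU⟩ ha
  have hne : evT V s a ≠ 0 := by rw [evT_eq ha]; exact (mem_basicOpen_iff hV a ha s).1 has
  have hev : ∀ᶠ i in l, (an i).pt ∈ X.basicOpen s := by
    filter_upwards [han, (hlim s).eventually (isOpen_ne.mem_nhds hne)] with i hi hi'
    rw [evT_eq hi] at hi'
    exact (mem_basicOpen_iff hV _ hi s).2 hi'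
  haveI := hV.isLocalization_basicOpen s
  obtain ⟨k, b, hb⟩ := IsLocalization.Away.surj s (X.presheaf.map (homOfLE hsU).op f)
  have hval : ∀ (c : Pts X) (hc : c.pt ∈ X.basicOpen s), c.pt ∈ V →
      c.ev U (hsU hc) f = evT V b c / evT V s c ^ k := by
    intro c hc hcV
    have := congrArg (evHom c (X.basicOpen s) hc) hb
    rw [RingHom.algebraMap_toAlgebra, map_mul, map_pow] at this
    simp only [evHom_apply] at this
    rw [evT_eq hcV, evT_eq hcV, eq_div_iff (pow_ne_zero _ ((mem_basicOpen_iff hV c hcV s).1 hc)),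
      ← ev_res c hsU hc, ← ev_res c (X.basicOpen_le s) hc, ← ev_res c (X.basicOpen_le s) hc]
    exact this
  rw [hval a has ha] at haf
  have hq : ∀ᶠ i in l, evT V b (an i) / evT V s (an i) ^ k ∈ O :=
    ((hlim b).div ((hlim s).pow k) (pow_ne_zero _ hne)).eventually (hO.mem_nhds haf)
  filter_upwards [hev, hq, han] with i h1 h2 h3
  exact ⟨hsU h1, by rw [hval _ h1 h3]; exact h2⟩

/-- A map with continuous values is inducing if convergence can be pulled back. -/
lemma isInducing_of_tendsto {A B : Type*} [TopologicalSpace A] [TopologicalSpace B] {F : A → B}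
    (hc : Continuous F) (h : ∀ a, Tendsto id (comap F (𝓝 (F a))) (𝓝 a)) : IsInducing F :=
  isInducing_iff_nhds.2 fun a => le_antisymm (map_le_iff_le_comap.1 (hc.tendsto a)) (by simpa [Tendsto] using h a)

lemma range_map (g : X ⟶ Y) [g.IsOver SC] [LocallyOfFiniteType (X ↘ SC)] [LocallyOfFiniteType (Y ↘ SC)] :
    Set.range (Pts.map g) = Pts.pt ⁻¹' Set.range g := by
  refine subset_antisymm ?_ fun b hb => ?_
  · rintro _ ⟨a, rfl⟩
    exact ⟨a.pt, (Pts.pt_map g a).symm⟩
  · obtain ⟨x, hx⟩ := hb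
    obtain ⟨a, ha⟩ := exists_pts_of_isLocallyClosed (g ⁻¹' {b.pt})
      ((isClosed_pt b).preimage g.continuous).isLocallyClosed ⟨x, hx⟩
    exact ⟨a, pt_injective ((Pts.pt_map g a).trans ha)⟩

lemma map_injective (g : X ⟶ Y) [g.IsOver SC] [Mono g] : Function.Injective (Pts.map g) :=
  fun _ _ h => Subtype.ext ((cancel_mono g).1 (congrArg Subtype.val h))

/-- Open immersions induce open embeddings. -/
theorem isOpenEmbedding_map (g : X ⟶ Y) [g.IsOver SC] [IsOpenImmersion g] [LocallyOfFiniteType (X ↘ SC)]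
    [LocallyOfFiniteType (Y ↘ SC)] : IsOpenEmbedding (Pts.map g) := by
  refine ⟨⟨isInducing_of_tendsto (Pts.continuous_map g) fun a => ?_, map_injective g⟩, ?_⟩
  · obtain ⟨_, ⟨V, hV, rfl⟩, haV, -⟩ :=
      X.isBasis_affineOpens.exists_subset_of_mem_open (Set.mem_univ a.pt) isOpen_univ
    have hV' : IsAffineOpen (g ''ᵁ V) := IsAffineOpen.image_of_isOpenImmersion hV g
    have ha' : (Pts.map g a).pt ∈ g ''ᵁ V := ⟨a.pt, haV, (Pts.pt_map g a).symm⟩
    obtain ⟨h1, h2⟩ := (tendsto_iff_evT hV' ha').1 (tendsto_comap (f := Pts.map g) (x := 𝓝 (Pts.map g a)))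
    have h3 : ∀ᶠ c in comap (Pts.map g) (𝓝 (Pts.map g a)), c.pt ∈ V := h1.mono fun c hc => by
      rw [Pts.pt_map] at hc
      obtain ⟨x, hx, hxe⟩ := hc
      exact g.isOpenEmbedding.injective hxe ▸ hx
    refine (tendsto_iff_evT hV haV).2 ⟨h3, fun b => ?_⟩
    have hle : V ≤ g ⁻¹ᵁ (g ''ᵁ V) := (Scheme.Hom.preimage_image_eq g V).ge
    obtain ⟨b', rfl⟩ : ∃ b', g.appLE (g ''ᵁ V) V hle b' = b := by
      refine ⟨(g.appIso V).inv b, ?_⟩
      rw [← CommRingCat.comp_apply]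
      have : (g.appIso V).inv ≫ g.appLE (g ''ᵁ V) V hle = 𝟙 _ := by
        rw [← Scheme.Hom.appIso_hom' g V, Iso.inv_hom_id]
      rw [this]; rfl
    rw [← evT_map g hle haV]
    refine (h2 b').congr' (h3.mono fun c hc => ?_)
    exact evT_map g hle hc b'
  · rw [range_map g]
    exact g.isOpenEmbedding.isOpen_range.preimage Pts.continuous_pt

/-- Closed immersions induce closed embeddings. -/
theorem isClosedEmbedding_map (g : X ⟶ Y) [g.IsOver SC] [IsClosedImmersion g] [LocallyOfFiniteType (X ↘ SC)]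
    [LocallyOfFiniteType (Y ↘ SC)] : IsClosedEmbedding (Pts.map g) := by
  refine ⟨⟨isInducing_of_tendsto (Pts.continuous_map g) fun a => ?_, map_injective g⟩, ?_⟩
  · obtain ⟨_, ⟨V, hV, rfl⟩, haV, -⟩ :=
      Y.isBasis_affineOpens.exists_subset_of_mem_open (Set.mem_univ (Pts.map g a).pt) isOpen_univ
    obtain ⟨h1, h2⟩ := (tendsto_iff_evT hV haV).1 (tendsto_comap (f := Pts.map g) (x := 𝓝 (Pts.map g a)))
    have h3 : ∀ᶠ c in comap (Pts.map g) (𝓝 (Pts.map g a)), c.pt ∈ g ⁻¹ᵁ V := h1.mono fun c hc => by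
      rw [Pts.pt_map] at hc; exact hc
    have haV' : a.pt ∈ g ⁻¹ᵁ V := by rw [Pts.pt_map] at haV; exact haV
    refine (tendsto_iff_evT (IsAffineOpen.preimage hV g) haV').2 ⟨h3, fun b => ?_⟩
    obtain ⟨b', rfl⟩ : ∃ b', g.appLE V (g ⁻¹ᵁ V) le_rfl b' = b := by
      rw [Scheme.Hom.appLE_eq_app]
      exact (isClosedImmersion_iff_isAffineHom.1 ‹_›).2 V hV b
    rw [← evT_map g le_rfl haV']
    refine (h2 b').congr' (h3.mono fun c hc => ?_)
    exact evT_map g le_rfl hc b'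
  · rw [range_map g]
    exact g.isClosedEmbedding.isClosed_range.preimage Pts.continuous_pt

end Groth.Agent.AnBasic
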