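import Mathlib.RingTheory.NoetherNormalization
import Mathlib.Analysis.Complex.Polynomial.Basic
import Mathlib.FieldTheory.Minpoly.IsIntegrallyClosed
import Mathlib.RingTheory.Jacobson.Ring
import Mathlib.Topology.Instances.Complex
import Mathlib.RingTheory.Polynomial.UniqueFactorization
import Mathlib.RingTheory.Polynomial.RationalRoot
import Mathlib.Topology.Algebra.MvPolynomial
import Mathlib.Algebra.MvPolynomial.Funext
import Mathlib.RingTheory.IntegralClosure.IntegrallyClosed
import Mathlib.RingTheory.IntegralClosure.IsIntegralClosure.Basic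

/-!
# Complex points of an affine variety off a hypersurface are classically dense
-/

set_option autoImplicit false

open Filter Topology Polynomial

namespace Groth.Agent.AnBasic

variable {B : Type} [CommRing B] [Algebra ℂ B]

/-- Evaluations near a point avoiding the zeros of a nonzero polynomial. -/
theorem exists_seq_eval_ne_zero {s : ℕ} (G : MvPolynomial (Fin s) ℂ) (hG : G ≠ 0) (q : Fin s → ℂ) :
    ∃ x : ℕ → Fin s → ℂ, (∀ n, MvPolynomial.eval (x n) G ≠ 0) ∧ Tendsto x atTop (𝓝 q) := by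
  obtain ⟨v, hv⟩ : ∃ v, MvPolynomial.eval v G ≠ 0 := by
    by_contra h
    push Not at h
    exact hG (MvPolynomial.funext fun v => by simpa using h v)
  let p : ℂ[X] := MvPolynomial.aeval (fun i => C (q i) + X * C (v i - q i)) G
  have hp : ∀ t : ℂ, p.eval t = MvPolynomial.eval (fun i => q i + t * (v i - q i)) G := fun t => by
    change (Polynomial.aeval t) p = _
    rw [← AlgHom.comp_apply, MvPolynomial.comp_aeval, ← MvPolynomial.aeval_eq_eval]
    simp
  have hp0 : p ≠ 0 := fun h => hv (by simpa [h] using (hp 1).symm)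
  have hev : ∀ᶠ t : ℂ in 𝓝[≠] 0, p.eval t ≠ 0 := by
    have hfin : {t : ℂ | p.eval t = 0}.Finite := p.finite_setOf_isRoot hp0
    filter_upwards [(nhdsWithin_le_nhds ((hfin.diff (t := {(0 : ℂ)})).isClosed.isOpen_compl.mem_nhds
      (by simp))), self_mem_nhdsWithin] with t ht ht0 h
    exact ht ⟨h, ht0⟩
  obtain ⟨t, ht, ht'⟩ : ∃ t : ℕ → ℂ, Tendsto t atTop (𝓝[≠] 0) ∧ ∀ n, p.eval (t n) ≠ 0 := by
    obtain ⟨t, ht⟩ := exists_seq_tendsto (𝓝[≠] (0 : ℂ))
    obtain ⟨N, hN⟩ := eventually_atTop.1 (ht.eventually hev)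
    exact ⟨fun n => t (n + N), ht.comp (tendsto_add_atTop_nat N), fun n => hN _ (Nat.le_add_left _ _)⟩
  refine ⟨fun n i => q i + t n * (v i - q i), fun n => by rw [← hp]; exact ht' n, tendsto_pi_nhds.2 fun i => ?_⟩
  have := ((tendsto_nhdsWithin_iff.1 ht).1.mul_const (v i - q i)).const_add (q i)
  simpa using this

/-- A bound for the roots of a monic polynomial. -/
theorem norm_root_le (p : ℂ[X]) (hp : p.Monic) {z : ℂ} (hz : p.IsRoot z) :
    ‖z‖ ≤ 1 + ∑ i ∈ Finset.range p.natDegree, ‖p.coeff i‖ := by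
  by_contra hlt
  push Not at hlt
  set S := ∑ i ∈ Finset.range p.natDegree, ‖p.coeff i‖
  have hS : 0 ≤ S := Finset.sum_nonneg fun i _ => norm_nonneg _
  have h1 : 1 ≤ ‖z‖ := by linarith
  obtain ⟨d, hd⟩ : ∃ d, p.natDegree = d + 1 := by
    rcases Nat.exists_eq_succ_of_ne_zero (n := p.natDegree) (fun h0 => by
      rw [hp.natDegree_eq_zero.1 h0] at hz; simp at hz) with ⟨d, hd⟩
    exact ⟨d, hd⟩
  have hsum : z ^ p.natDegree = - ∑ i ∈ Finset.range p.natDegree, p.coeff i * z ^ i := by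
    have := hz.eq_zero
    rw [eval_eq_sum_range, Finset.sum_range_succ, hp.coeff_natDegree, one_mul] at this
    linear_combination this
  have hb : ‖z‖ ^ p.natDegree ≤ S * ‖z‖ ^ d := by
    rw [← norm_pow, hsum, norm_neg]
    refine (norm_sum_le _ _).trans ?_
    rw [Finset.sum_mul]
    refine Finset.sum_le_sum fun i hi => ?_
    rw [norm_mul, norm_pow]
    exact mul_le_mul_of_nonneg_left (pow_le_pow_right₀ h1 (by have := Finset.mem_range.1 hi; omega)) (norm_nonneg _)
  rw [hd, pow_succ, mul_comm] at hb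
  exact absurd (le_of_mul_le_mul_right hb (by positivity)) (by linarith)

variable [IsDomain B] [Algebra.FiniteType ℂ B]

/-- The complex points where `g` does not vanish are dense. -/
theorem exists_seq_points (χ : B →ₐ[ℂ] ℂ) {g : B} (hg : g ≠ 0) :
    ∃ χn : ℕ → (B →ₐ[ℂ] ℂ), (∀ n, χn n g ≠ 0) ∧ ∀ b, Tendsto (fun n => χn n b) atTop (𝓝 (χ b)) := by
  classical
  obtain ⟨s, ι, hι, hfin⟩ := exists_finite_inj_algHom_of_fg ℂ B
  letI : Algebra (MvPolynomial (Fin s) ℂ) B := ι.toRingHom.toAlgebra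
  haveI : IsScalarTower ℂ (MvPolynomial (Fin s) ℂ) B := IsScalarTower.of_algebraMap_eq fun c => (ι.commutes c).symm
  haveI : Module.Finite (MvPolynomial (Fin s) ℂ) B := hfin
  haveI : FaithfulSMul (MvPolynomial (Fin s) ℂ) B := (faithfulSMul_iff_algebraMap_injective _ _).2 hι
  haveI : Algebra.IsIntegral (MvPolynomial (Fin s) ℂ) B := Algebra.IsIntegral.of_finite _ _
  let q : Fin s → ℂ := fun i => χ (ι (MvPolynomial.X i))
  have hq : ∀ P, χ (ι P) = MvPolynomial.eval q P := fun P => by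
    rw [← AlgHom.comp_apply, MvPolynomial.aeval_unique (χ.comp ι)]
    rfl
  obtain ⟨G, hG, hGg⟩ : ∃ G : MvPolynomial (Fin s) ℂ, G ≠ 0 ∧ ι G ∈ Ideal.span {g} := by
    have h0 : (Ideal.span {g}).comap (algebraMap (MvPolynomial (Fin s) ℂ) B) ≠ ⊥ :=
      Ideal.IsIntegral.comap_ne_bot _ (by simpa using hg)
    obtain ⟨G, hG, hG0⟩ := Submodule.exists_mem_ne_zero_of_ne_bot h0
    exact ⟨G, hG0, hG⟩
  obtain ⟨x, hx, hxq⟩ := exists_seq_eval_ne_zero G hG q
  -- an element separating `χ` from the other points over `q`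
  obtain ⟨F, hF⟩ := (inferInstance : Algebra.FiniteType ℂ B)
  have hext : ∀ φ ψ : B →ₐ[ℂ] ℂ, (∀ b ∈ F, φ b = ψ b) → φ = ψ := fun φ ψ h =>
    AlgHom.ext_of_adjoin_eq_top hF h
  have hint : ∀ b : B, IsIntegral (MvPolynomial (Fin s) ℂ) b := fun b => Algebra.IsIntegral.isIntegral b
  let P : B → (MvPolynomial (Fin s) ℂ)[X] := fun b => minpoly _ b
  have hroot : ∀ (φ : B →ₐ[ℂ] ℂ) (y : Fin s → ℂ), (∀ i, φ (ι (MvPolynomial.X i)) = y i) → ∀ b,
      ((P b).map (MvPolynomial.eval y)).IsRoot (φ b) := fun φ y hy b => by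
    have hc : φ.toRingHom.comp (algebraMap (MvPolynomial (Fin s) ℂ) B) = MvPolynomial.eval y := by
      refine RingHom.ext fun Q => ?_
      change φ (ι Q) = _
      rw [← AlgHom.comp_apply, MvPolynomial.aeval_unique (φ.comp ι)]
      have : (((φ : B → ℂ) ∘ ι) ∘ MvPolynomial.X) = y := funext hy
      simp [this, MvPolynomial.aeval_eq_eval]
    have h0 : (Polynomial.aeval b) (P b) = 0 := minpoly.aeval _ _
    have := congrArg φ.toRingHom h0
    rw [aeval_def, hom_eval₂, hc, map_zero] at this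
    rw [IsRoot.def, eval_map]
    exact this
  have hfinpts : {φ : B →ₐ[ℂ] ℂ | ∀ i, φ (ι (MvPolynomial.X i)) = q i}.Finite := by
    refine Set.Finite.of_finite_image (f := fun φ (b : F) => φ b) ?_
      (fun φ _ ψ _ h => hext φ ψ fun b hb => congrFun h ⟨b, hb⟩)
    refine (Set.Finite.pi fun b : F => (((P (b : B)).map (MvPolynomial.eval q)).finite_setOf_isRoot
      ((minpoly.monic (hint _)).map _).ne_zero)).subset ?_
    rintro _ ⟨φ, hφ, rfl⟩ b -
    exact hroot φ q hφ b
  obtain ⟨h, hhχ, hh⟩ : ∃ h : B, χ h = 0 ∧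
      ∀ φ : B →ₐ[ℂ] ℂ, (∀ i, φ (ι (MvPolynomial.X i)) = q i) → φ h = 0 → φ = χ := by
    let S := hfinpts.toFinset.erase χ
    have hcov : ¬ ((RingHom.ker χ : Set B) ⊆ ⋃ φ ∈ (S : Set (B →ₐ[ℂ] ℂ)), (RingHom.ker φ : Set B)) := by
      rw [Ideal.subset_union_prime (f := fun φ : B →ₐ[ℂ] ℂ => RingHom.ker φ) χ χ fun φ _ _ _ => RingHom.ker_isPrime φ]
      rintro ⟨φ, hφ, hle⟩
      refine (Finset.mem_erase.1 hφ).1 (AlgHom.ext fun b => ?_)
      have := hle (show b - algebraMap ℂ B (χ b) ∈ RingHom.ker χ by simp)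
      simpa [sub_eq_zero] using this
    obtain ⟨h, hhk, hhn⟩ := Set.not_subset.1 hcov
    refine ⟨h, hhk, fun φ hφ h0 => by_contra fun hne => hhn ?_⟩
    exact Set.mem_biUnion (Finset.mem_erase.2 ⟨hne, hfinpts.mem_toFinset.2 hφ⟩) h0
  -- a root of the minimal polynomial of `h` near `0`
  let Q := P h
  have hQm : Q.Monic := minpoly.monic (hint h)
  let d := Q.natDegree
  have hd : 0 < d := minpoly.natDegree_pos (hint h)
  have hroots : ∀ n, ∃ t : ℂ, (Q.map (MvPolynomial.eval (x n))).IsRoot t ∧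
      ‖t‖ ^ d ≤ ‖MvPolynomial.eval (x n) (Q.coeff 0)‖ := by
    intro n
    let R := Q.map (MvPolynomial.eval (x n))
    have hR : R.Monic := hQm.map _
    have hspl := IsAlgClosed.splits R
    have hdeg : Multiset.card R.roots = d := by
      rw [← Polynomial.Splits.natDegree_eq_card_roots hspl, hQm.natDegree_map]
    obtain ⟨t₀, ht₀⟩ := Multiset.card_pos_iff_exists_mem.1 (hdeg ▸ hd : 0 < Multiset.card R.roots)
    obtain ⟨t, ht, hmin⟩ := R.roots.toFinset.exists_min_image (fun z => ‖z‖) ⟨t₀, Multiset.mem_toFinset.2 ht₀⟩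
    refine ⟨t, isRoot_of_mem_roots (Multiset.mem_toFinset.1 ht), ?_⟩
    have hc := hspl.coeff_zero_eq_prod_roots_of_monic hR
    rw [coeff_map] at hc
    rw [hc, norm_mul, norm_pow, norm_neg, norm_one, one_pow, one_mul, ← hdeg]
    calc ‖t‖ ^ Multiset.card R.roots = (R.roots.map fun _ => ‖t‖).prod := by simp
      _ ≤ (R.roots.map fun z => ‖z‖).prod :=
        Multiset.prod_map_le_prod_map₀ _ _ (fun _ _ => norm_nonneg _)
          fun z hz => hmin z (Multiset.mem_toFinset.2 hz)
      _ = ‖R.roots.prod‖ := (map_multiset_prod (normHom : ℂ →*₀ ℝ) R.roots).symm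
  choose t ht htn using hroots
  -- points over `x n` with prescribed value of `h`
  have hlift : ∀ n, ∃ φ : B →ₐ[ℂ] ℂ, (∀ i, φ (ι (MvPolynomial.X i)) = x n i) ∧ φ h = t n := by
    intro n
    let e : (MvPolynomial (Fin s) ℂ)[X] →+* ℂ := eval₂RingHom (MvPolynomial.eval (x n)) (t n)
    have hQe : e Q = 0 := by simpa [e, IsRoot.def, eval_map] using ht n
    let a : (MvPolynomial (Fin s) ℂ)[X] →+* B := (Polynomial.aeval h).toRingHom
    have hker : RingHom.ker a ≤ RingHom.ker e := fun p hp => by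
      obtain ⟨c, rfl⟩ := minpoly.isIntegrallyClosed_dvd (hint h) (show (Polynomial.aeval h) p = 0 from hp)
      rw [RingHom.mem_ker, map_mul, show e (minpoly (MvPolynomial (Fin s) ℂ) h) = 0 from hQe, zero_mul]
    have haint : a.IsIntegral := by
      refine RingHom.IsIntegral.tower_top (C : MvPolynomial (Fin s) ℂ →+* _) a ?_
      have hcomp : a.comp (C : MvPolynomial (Fin s) ℂ →+* _) = algebraMap (MvPolynomial (Fin s) ℂ) B :=
        RingHom.ext fun p => by simp [a]
      rw [hcomp]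
      exact fun b => hint b
    letI := a.toAlgebra
    haveI : Algebra.IsIntegral (MvPolynomial (Fin s) ℂ)[X] B := ⟨haint⟩
    haveI : (RingHom.ker e).IsPrime := RingHom.ker_isPrime e
    obtain ⟨M, -, hM, hMe⟩ := Ideal.exists_ideal_over_prime_of_isIntegral (RingHom.ker e) (⊥ : Ideal B)
      (by rw [← RingHom.ker_eq_comap_bot]; exact hker)
    have hesurj : Function.Surjective e := fun c => ⟨C (MvPolynomial.C c), by simp [e]⟩
    haveI : (RingHom.ker e).IsMaximal := RingHom.ker_isMaximal_of_surjective e hesurj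
    haveI hMmax : M.IsMaximal := Ideal.isMaximal_of_isIntegral_of_isMaximal_comap (R := (MvPolynomial (Fin s) ℂ)[X]) M
      (by rw [hMe]; infer_instance)
    letI := Ideal.Quotient.field M
    haveI : Module.Finite ℂ (B ⧸ M) := finite_of_finite_type_of_isJacobsonRing ℂ (B ⧸ M)
    let eq : ℂ ≃ₐ[ℂ] B ⧸ M := AlgEquiv.ofBijective (Algebra.ofId ℂ (B ⧸ M))
      IsAlgClosed.algebraMap_bijective_of_isIntegral
    let φ : B →ₐ[ℂ] ℂ := eq.symm.toAlgHom.comp (Ideal.Quotient.mkₐ ℂ M)
    have hval : ∀ p, φ (a p) = e p := fun p => by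
      have hp : p - C (MvPolynomial.C (e p)) ∈ RingHom.ker e := by simp [e]
      rw [← hMe] at hp
      have hp' : a p - algebraMap ℂ B (e p) ∈ M := by
        have : a (C (MvPolynomial.C (e p))) = algebraMap ℂ B (e p) := by
          simp only [a, AlgHom.toRingHom_eq_coe, RingHom.coe_coe, aeval_C]
          exact ι.commutes _
        rw [← this, ← map_sub]
        exact hp
      change eq.symm (Ideal.Quotient.mk M (a p)) = e p
      rw [Ideal.Quotient.eq.2 hp']
      exact eq.symm_apply_apply (e p)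
    refine ⟨φ, fun i => ?_, ?_⟩
    · simpa [a, e, RingHom.algebraMap_toAlgebra] using hval (C (MvPolynomial.X i))
    · simpa [a, e] using hval X
  choose φ hφx hφh using hlift
  refine ⟨φ, fun n h0 => hx n ?_, ?_⟩
  · obtain ⟨b, hb⟩ := Ideal.mem_span_singleton'.1 hGg
    have : φ n (ι G) = 0 := by rw [← hb, map_mul, h0, mul_zero]
    rw [← AlgHom.comp_apply, MvPolynomial.aeval_unique ((φ n).comp ι)] at this
    have hx' : (((φ n : B → ℂ) ∘ ι) ∘ MvPolynomial.X) = x n := funext (hφx n)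
    simpa [hx', MvPolynomial.aeval_eq_eval] using this
  -- boundedness
  have hbdd : ∀ b, ∃ R, ∀ n, φ n b ∈ Metric.closedBall (0 : ℂ) R := fun b => by
    let D := (P b).natDegree
    have hcont : ∀ i, Tendsto (fun n => ‖MvPolynomial.eval (x n) ((P b).coeff i)‖) atTop
        (𝓝 ‖MvPolynomial.eval q ((P b).coeff i)‖) := fun i =>
      ((MvPolynomial.continuous_eval _).tendsto q |>.comp hxq).norm
    obtain ⟨R, hR⟩ := ((tendsto_finsetSum (Finset.range D) fun i _ => hcont i).const_add 1).bddAbove_range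
    refine ⟨R, fun n => ?_⟩
    rw [mem_closedBall_zero_iff]
    refine (norm_root_le _ ((minpoly.monic (hint b)).map _) (hroot (φ n) (x n) (hφx n) b)).trans ?_
    rw [(minpoly.monic (hint b)).natDegree_map]
    refine le_trans ?_ (hR ⟨n, rfl⟩)
    simp [D, P, coeff_map]
  intro b
  rw [tendsto_iff_ultrafilter]
  intro u hu
  choose R hR using hbdd
  have hl : ∀ c, ∃ l : ℂ, Tendsto (fun n => φ n c) u (𝓝 l) := fun c => by
    obtain ⟨l, -, hl⟩ := (isCompact_closedBall (0 : ℂ) (R c)).ultrafilter_le_nhds'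
      (u.map fun n => φ n c) (Ultrafilter.mem_map.2 (Filter.univ_mem' fun n => hR c n))
    exact ⟨l, hl⟩
  choose L hL using hl
  let φL : B →ₐ[ℂ] ℂ :=
    { toFun := L
      map_one' := tendsto_nhds_unique (hL 1) (by simp)
      map_zero' := tendsto_nhds_unique (hL 0) (by simp)
      map_mul' := fun c c' => tendsto_nhds_unique (hL (c * c')) (by simpa using (hL c).mul (hL c'))
      map_add' := fun c c' => tendsto_nhds_unique (hL (c + c')) (by simpa using (hL c).add (hL c'))
      commutes' := fun r => tendsto_nhds_unique (hL _) (by simp) }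
  have hLq : ∀ i, φL (ι (MvPolynomial.X i)) = q i := fun i => by
    refine tendsto_nhds_unique (hL _) (Tendsto.mono_left ?_ hu)
    simp only [hφx]
    exact (tendsto_pi_nhds.1 hxq) i
  have hLh : φL h = 0 := by
    refine tendsto_nhds_unique (hL h) (Tendsto.mono_left ?_ hu)
    simp only [hφh]
    have hc : Tendsto (fun n => MvPolynomial.eval (x n) (Q.coeff 0)) atTop (𝓝 0) := by
      have h0 := (MvPolynomial.continuous_eval (Q.coeff 0)).tendsto q |>.comp hxq
      have : MvPolynomial.eval q (Q.coeff 0) = 0 := by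
        have := hroot χ q (fun i => rfl) h
        rwa [hhχ, IsRoot.def, ← coeff_zero_eq_eval_zero, coeff_map] at this
      rwa [this] at h0
    rw [Metric.tendsto_atTop] at hc ⊢
    intro ε hε
    obtain ⟨N, hN⟩ := hc (ε ^ d) (by positivity)
    refine ⟨N, fun n hn => ?_⟩
    have := hN n hn
    rw [dist_zero_right] at this ⊢
    exact lt_of_pow_lt_pow_left₀ d hε.le ((htn n).trans_lt this)
  have := hh φL hLq hLh
  rw [← this]
  exact hL b

end Groth.Agent.AnBasic
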