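import Groth.Agent.AnBasic.Pts
import Groth.Agent.AnBasic.Approx
import Mathlib

/-!
# Classical closure of locally constructible sets
-/

set_option autoImplicit false

open CategoryTheory AlgebraicGeometry Topology TopologicalSpace Filter
open An

namespace Groth.Agent.AnBasic

variable {X : Scheme.{0}} [X.Over An.SC]

/-- Evaluation at a complex point as a ring homomorphism. -/
noncomputable def evHom (a : Pts X) (U : X.Opens) (h : a.pt ∈ U) : Γ(X, U) →+* ℂ :=
  (Scheme.ΓSpecIso (CommRingCat.of ℂ)).hom.hom.comp (a.1.appLE U ⊤ (Pts.top_le_preimage a h)).hom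

lemma evHom_apply (a : Pts X) (U : X.Opens) (h : a.pt ∈ U) (f : Γ(X, U)) :
    evHom a U h f = a.ev U h f := rfl

lemma ev_res (a : Pts X) {U W : X.Opens} (hWU : W ≤ U) (h : a.pt ∈ W) (f : Γ(X, U)) :
    a.ev W h (X.presheaf.map (homOfLE hWU).op f) = a.ev U (hWU h) f := by
  unfold Pts.ev
  rw [← CommRingCat.comp_apply (X.presheaf.map (homOfLE hWU).op), Scheme.Hom.map_appLE]

variable {V : X.Opens} (hV : IsAffineOpen V)

/-- The structure map of the sections over an affine open. -/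
noncomputable def strV : CommRingCat.of ℂ ⟶ Γ(X, V) :=
  Spec.preimage (hV.fromSpec ≫ (X ↘ SC))

lemma SpecMap_strV : Spec.map (strV hV) = hV.fromSpec ≫ (X ↘ SC) := Spec.map_preimage _

/-- The complex point of an affine open attached to a character. -/
noncomputable def mkPt (φ : Γ(X, V) ⟶ CommRingCat.of ℂ) (hφ : strV hV ≫ φ = 𝟙 _) : Pts X :=
  ⟨Spec.map φ ≫ hV.fromSpec, by
    rw [Category.assoc, ← SpecMap_strV, ← Spec.map_comp, hφ, Spec.map_id]⟩

/-- The prime underlying a character. -/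
noncomputable def kerPt (φ : Γ(X, V) ⟶ CommRingCat.of ℂ) : PrimeSpectrum Γ(X, V) :=
  PrimeSpectrum.comap φ.hom (⊥ : PrimeSpectrum ℂ)

lemma kerPt_asIdeal (φ : Γ(X, V) ⟶ CommRingCat.of ℂ) : (kerPt φ).asIdeal = RingHom.ker φ.hom := rfl

lemma pt_mkPt (φ : Γ(X, V) ⟶ CommRingCat.of ℂ) (hφ : strV hV ≫ φ = 𝟙 _) :
    (mkPt hV φ hφ).pt = hV.fromSpec (kerPt φ) := by
  change (Spec.map φ ≫ hV.fromSpec) cpt = _
  rw [Scheme.Hom.comp_apply]
  congr 1

lemma pt_mkPt_mem (φ : Γ(X, V) ⟶ CommRingCat.of ℂ) (hφ : strV hV ≫ φ = 𝟙 _) :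
    (mkPt hV φ hφ).pt ∈ V := by
  rw [pt_mkPt]
  exact (Set.ext_iff.1 hV.range_fromSpec _).1 ⟨_, rfl⟩

lemma ev_mkPt (φ : Γ(X, V) ⟶ CommRingCat.of ℂ) (hφ : strV hV ≫ φ = 𝟙 _)
    (h : (mkPt hV φ hφ).pt ∈ V) (b : Γ(X, V)) : (mkPt hV φ hφ).ev V h b = φ b := by
  have key : (Spec.map φ ≫ hV.fromSpec).appLE V ⊤ (Pts.top_le_preimage (mkPt hV φ hφ) h) ≫
      (Scheme.ΓSpecIso (CommRingCat.of ℂ)).hom = φ := by
    rw [Scheme.Hom.comp_appLE, hV.fromSpec_app_self, Category.assoc, Category.assoc,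
      Scheme.Hom.map_appLE_assoc]
    change (Scheme.ΓSpecIso Γ(X, V)).inv ≫ (Spec.map φ).appLE ⊤ ((Spec.map φ) ⁻¹ᵁ ⊤) le_rfl ≫ _ = φ
    rw [Scheme.Hom.appLE_eq_app]
    change (Scheme.ΓSpecIso Γ(X, V)).inv ≫ (Spec.map φ).appTop ≫ _ = φ
    rw [Scheme.ΓSpecIso_naturality, Iso.inv_hom_id_assoc]
  exact congrArg (fun ψ => ψ b) key

lemma exists_mkPt (a : Pts X) (h : a.pt ∈ V) :
    ∃ (φ : Γ(X, V) ⟶ CommRingCat.of ℂ) (hφ : strV hV ≫ φ = 𝟙 _), a = mkPt hV φ hφ := by
  have hr : Set.range a.1 ⊆ Set.range hV.fromSpec := by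
    rintro _ ⟨p, rfl⟩
    rw [hV.range_fromSpec, An.eq_cpt p]
    exact h
  let l := IsOpenImmersion.lift hV.fromSpec a.1 hr
  have hl : Spec.map (Spec.preimage l) ≫ hV.fromSpec = a.1 := by
    rw [Spec.map_preimage]; exact IsOpenImmersion.lift_fac _ _ _
  refine ⟨Spec.preimage l, Spec.map_injective ?_, Subtype.ext hl.symm⟩
  rw [Spec.map_comp, SpecMap_strV, ← Category.assoc, hl, Spec.map_id]
  exact a.2

include hV in
lemma mem_basicOpen_iff (a : Pts X) (h : a.pt ∈ V) (s : Γ(X, V)) :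
    a.pt ∈ X.basicOpen s ↔ a.ev V h s ≠ 0 := by
  obtain ⟨φ, hφ, rfl⟩ := exists_mkPt hV a h
  rw [ev_mkPt hV φ hφ h, pt_mkPt]
  change kerPt φ ∈ hV.fromSpec ⁻¹ᵁ X.basicOpen s ↔ _
  rw [hV.fromSpec_preimage_basicOpen]
  exact Iff.rfl

include hV in
/-- Convergence of complex points is detected on the coordinate ring of an affine open. -/
lemma tendsto_pts (an : ℕ → Pts X) (a : Pts X) (han : ∀ n, (an n).pt ∈ V) (ha : a.pt ∈ V)
    (hlim : ∀ b : Γ(X, V), Tendsto (fun n => (an n).ev V (han n) b) atTop (𝓝 (a.ev V ha b))) :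
    Tendsto an atTop (𝓝 a) := by
  refine TopologicalSpace.tendsto_nhds_generateFrom_iff.2 ?_
  rintro _ ⟨U, f, O, hO, rfl⟩ ⟨haU, haf⟩
  obtain ⟨s, hsU, has⟩ := hV.exists_basicOpen_le (V := U) ⟨a.pt, haU⟩ ha
  have hne : a.ev V ha s ≠ 0 := (mem_basicOpen_iff hV a ha s).1 has
  have hev : ∀ᶠ n in atTop, (an n).pt ∈ X.basicOpen s :=
    ((hlim s).eventually (isOpen_ne.mem_nhds hne)).mono fun n hn => (mem_basicOpen_iff hV _ (han n) s).2 hn
  haveI := hV.isLocalization_basicOpen s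
  obtain ⟨k, b, hb⟩ := IsLocalization.Away.surj s (X.presheaf.map (homOfLE hsU).op f)
  have hval : ∀ (c : Pts X) (hc : c.pt ∈ X.basicOpen s) (hcV : c.pt ∈ V),
      c.ev U (hsU hc) f = c.ev V hcV b / c.ev V hcV s ^ k := by
    intro c hc hcV
    have := congrArg (evHom c (X.basicOpen s) hc) hb
    rw [RingHom.algebraMap_toAlgebra, map_mul, map_pow] at this
    simp only [evHom_apply] at this
    rw [eq_div_iff (pow_ne_zero _ ((mem_basicOpen_iff hV c hcV s).1 hc)), ← ev_res c hsU hc,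
      ← ev_res c (X.basicOpen_le s) hc, ← ev_res c (X.basicOpen_le s) hc]
    exact this
  rw [hval a has ha] at haf
  have hq : ∀ᶠ n in atTop, (an n).ev V (han n) b / (an n).ev V (han n) s ^ k ∈ O :=
    ((hlim b).div ((hlim s).pow k) (pow_ne_zero _ hne)).eventually (hO.mem_nhds haf)
  filter_upwards [hev, hq] with n h1 h2
  exact ⟨hsU h1, by rw [hval _ h1 (han n)]; exact h2⟩

variable [LocallyOfFiniteType (X ↘ An.SC)]

/-- A complex point in the closure of a locally constructible set is in the classical closure. -/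
theorem mem_closure_pts {T : Set ↥X} (hT : IsLocallyConstructible T) (a : Pts X)
    (ha : a.pt ∈ closure T) : a ∈ closure (Pts.pt ⁻¹' T) := by
  classical
  obtain ⟨_, ⟨V, hV, rfl⟩, haV, -⟩ :=
    X.isBasis_affineOpens.exists_subset_of_mem_open (Set.mem_univ a.pt) isOpen_univ
  obtain ⟨φa, hφa, rfl⟩ := exists_mkPt hV a haV
  algebraize [(strV hV).hom]
  haveI : Algebra.FiniteType ℂ Γ(X, V) := by
    have : LocallyOfFiniteType (Spec.map (strV hV)) := by
      rw [SpecMap_strV]; infer_instance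
    exact (HasRingHomProperty.Spec_iff (P := @LocallyOfFiniteType)).1 this
  haveI : IsNoetherianRing Γ(X, V) := Algebra.FiniteType.isNoetherianRing ℂ _
  have hoe := hV.fromSpec.isOpenEmbedding
  have hc : IsConstructible (X := PrimeSpectrum Γ(X, V)) (hV.fromSpec ⁻¹' T) :=
    (hT.preimage_of_isOpenEmbedding hoe).isConstructible
  obtain ⟨S, hS⟩ := PrimeSpectrum.exists_constructibleSetData_iff.2 hc
  rw [pt_mkPt] at ha
  have hm : kerPt φa ∈ closure (S.toSet) := by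
    rw [hS]
    exact (hoe.isOpenMap.preimage_closure_eq_closure_preimage hoe.continuous T).le ha
  rw [PrimeSpectrum.ConstructibleSetData.toSet, Finset.closure_biUnion] at hm
  obtain ⟨C, hC, hmC⟩ := Set.mem_iUnion₂.1 hm
  -- a prime in `C` below the point
  obtain ⟨Q, hQp, hQI, hQf, hQm⟩ : ∃ Q : Ideal Γ(X, V), Q.IsPrime ∧ Set.range C.g ⊆ Q ∧ C.f ∉ Q ∧
      Q ≤ RingHom.ker φa.hom := by
    let I := Ideal.span (Set.range C.g)
    let M := ((I.finite_minimalPrimes_of_isNoetherianRing _).toFinset).filter (C.f ∉ ·)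
    have hle : M.inf id ≤ RingHom.ker φa.hom := by
      have hsub : C.toSet ⊆ PrimeSpectrum.zeroLocus (M.inf id : Ideal Γ(X, V)) := by
        rintro p ⟨hpI, hpf⟩
        obtain ⟨Q, hQ, hQle⟩ := Ideal.exists_minimalPrimes_le (I := I) (J := p.asIdeal) (Ideal.span_le.2 hpI)
        have hQM : Q ∈ M := Finset.mem_filter.2 ⟨(Set.Finite.mem_toFinset _).2 hQ,
          fun hf => hpf (Set.singleton_subset_iff.2 (hQle hf))⟩
        exact ((Finset.inf_le hQM).trans hQle : M.inf id ≤ p.asIdeal)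
      exact (closure_minimal hsub (PrimeSpectrum.isClosed_zeroLocus _)) hmC
    obtain ⟨Q, hQ, hQle⟩ := (RingHom.ker_isPrime φa.hom).inf_le'.1 hle
    obtain ⟨hQ1, hQ2⟩ := Finset.mem_filter.1 hQ
    rw [Set.Finite.mem_toFinset] at hQ1
    exact ⟨Q, hQ1.1.1, fun x hx => hQ1.1.2 (Ideal.subset_span hx), hQ2, hQle⟩
  let φA : Γ(X, V) →ₐ[ℂ] ℂ := { φa.hom with commutes' := fun r => congrArg (fun ψ => ψ r) hφa }
  let χ : Γ(X, V) ⧸ Q →ₐ[ℂ] ℂ := Ideal.Quotient.liftₐ Q φA fun x hx => hQm hx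
  obtain ⟨χn, hne, hlim⟩ := exists_seq_points χ (g := Ideal.Quotient.mk Q C.f)
    fun h => hQf (Ideal.Quotient.eq_zero_iff_mem.1 h)
  let φn : ℕ → (Γ(X, V) ⟶ CommRingCat.of ℂ) := fun n =>
    CommRingCat.ofHom ((χn n).comp (Ideal.Quotient.mkₐ ℂ Q)).toRingHom
  have hφn : ∀ n, strV hV ≫ φn n = 𝟙 _ := fun n =>
    CommRingCat.hom_ext (RingHom.ext fun r => ((χn n).comp (Ideal.Quotient.mkₐ ℂ Q)).commutes r)
  refine mem_closure_of_tendsto (b := atTop) (f := fun n => mkPt hV (φn n) (hφn n))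
    (tendsto_pts hV _ _ (fun n => pt_mkPt_mem hV _ _) haV fun b => ?_) (Filter.Eventually.of_forall fun n => ?_)
  · simp only [ev_mkPt]
    exact hlim (Ideal.Quotient.mk Q b)
  · show (mkPt hV (φn n) (hφn n)).pt ∈ T
    rw [pt_mkPt]
    refine hS.le (Set.mem_biUnion hC ⟨fun x hx => ?_, fun hf => ?_⟩)
    · change (χn n) (Ideal.Quotient.mk Q x) = 0
      rw [Ideal.Quotient.eq_zero_iff_mem.2 (hQI hx), map_zero]
    · exact hne n (show C.f ∈ (kerPt (φn n)).asIdeal from Set.singleton_subset_iff.1 ((PrimeSpectrum.mem_zeroLocus _ _).1 hf))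

end Groth.Agent.AnBasic

namespace Groth.Agent.AnBasic

variable {X : Scheme.{0}} [X.Over An.SC] [LocallyOfFiniteType (X ↘ An.SC)]

/-- The complement of a locally constructible set is locally constructible. -/
theorem isLocallyConstructible_compl {Y : Type*} [TopologicalSpace Y] {T : Set Y}
    (hT : IsLocallyConstructible T) : IsLocallyConstructible Tᶜ := fun y => by
  obtain ⟨U, hU, hUo, hc⟩ := hT y
  exact ⟨U, hU, hUo, hc.compl⟩

/-- A nonempty locally constructible set contains a complex point. -/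
theorem exists_pts_of_isLocallyConstructible {T : Set ↥X} (hT : IsLocallyConstructible T)
    (hne : T.Nonempty) : ∃ a : An.Pts X, a.pt ∈ T := by
  obtain ⟨y, hy⟩ := hne
  obtain ⟨_, ⟨V, hV, rfl⟩, hyV, -⟩ :=
    X.isBasis_affineOpens.exists_subset_of_mem_open (Set.mem_univ y) isOpen_univ
  have hoe := (IsAffineOpen.fromSpec hV).isOpenEmbedding
  obtain ⟨S, hS⟩ := PrimeSpectrum.exists_constructibleSetData_iff.2
    (show IsConstructible (X := PrimeSpectrum Γ(X, V)) _ from (hT.preimage_of_isOpenEmbedding hoe).isConstructible)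
  obtain ⟨p, rfl⟩ := (Set.ext_iff.1 (IsAffineOpen.range_fromSpec hV) y).2 hyV
  obtain ⟨C, hC, hpC⟩ := Set.mem_iUnion₂.1 (hS.ge hy)
  have hlc : IsLocallyClosed ((IsAffineOpen.fromSpec hV) '' C.toSet) :=
    IsLocallyClosed.image
      ((PrimeSpectrum.isClosed_zeroLocus _).isLocallyClosed.inter
        (PrimeSpectrum.isClosed_zeroLocus _).isOpen_compl.isLocallyClosed)
      hoe.toIsInducing hoe.isOpen_range.isLocallyClosed
  obtain ⟨a, q, hq, hqa⟩ := exists_pts_of_isLocallyClosed _ hlc ⟨_, p, hpC, rfl⟩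
  exact ⟨a, hqa ▸ hS.le (Set.mem_biUnion hC hq)⟩

/-- Open or closed subsets of a scheme locally of finite type over `ℂ` are locally constructible. -/
theorem isLocallyConstructible_of_isClosed {T : Set ↥X} (hT : IsClosed T) : IsLocallyConstructible T := by
  haveI : IsLocallyNoetherian (An.SC : Scheme.{0}) := inferInstanceAs (IsLocallyNoetherian (Spec (CommRingCat.of ℂ)))
  haveI : IsLocallyNoetherian X := LocallyOfFiniteType.isLocallyNoetherian (X ↘ An.SC)
  intro y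
  obtain ⟨_, ⟨V, hV, rfl⟩, hyV, -⟩ :=
    X.isBasis_affineOpens.exists_subset_of_mem_open (Set.mem_univ y) isOpen_univ
  haveI : IsAffine V := hV
  haveI : IsNoetherian (V : Scheme.{0}) := ⟨⟩
  refine ⟨(V : Set ↥X), V.2.mem_nhds hyV, V.2, ?_⟩
  haveI : NoetherianSpace ↥(V : Set ↥X) := inferInstanceAs (NoetherianSpace ↥(V : Scheme.{0}))
  refine isConstructible_compl.1 (IsRetrocompact.isConstructible ?_ ?_)
  · exact (hT.preimage continuous_subtype_val).isOpen_compl
  · exact fun _ _ _ => NoetherianSpace.isCompact _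

end Groth.Agent.AnBasic
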