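import Groth.Agent.AnBasic.Affine

/-!
# Coordinates on affine pieces and fibre products
-/

set_option autoImplicit false

open CategoryTheory AlgebraicGeometry Topology TopologicalSpace Filter
open An
open scoped TensorProduct

namespace Groth.Agent.AnBasic

variable {X : Scheme.{0}} [X.Over An.SC]

/-- Values of sections at a point factoring through an affine scheme. -/
lemma evT_spec {T : CommRingCat.{0}} (e : Spec T ⟶ X) (O : X.Opens) (hO : ⊤ ≤ e ⁻¹ᵁ O)
    (φ : T ⟶ CommRingCat.of ℂ) (c : Pts X) (hc : c.1 = Spec.map φ ≫ e) (b : Γ(X, O)) :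
    evT O b c = φ ((Scheme.ΓSpecIso T).hom (e.appLE O ⊤ hO b)) := by
  obtain ⟨c, hc'⟩ := c
  dsimp only at hc
  subst hc
  have hmem : Pts.pt (⟨Spec.map φ ≫ e, hc'⟩ : Pts X) ∈ O := hO (show (Spec.map φ) cpt ∈ ⊤ from trivial)
  rw [evT_eq hmem]
  have key : (Spec.map φ ≫ e).appLE O ⊤ (Pts.top_le_preimage (⟨Spec.map φ ≫ e, hc'⟩ : Pts X) hmem) ≫
      (Scheme.ΓSpecIso (CommRingCat.of ℂ)).hom = e.appLE O ⊤ hO ≫ (Scheme.ΓSpecIso T).hom ≫ φ := by
    rw [← Scheme.ΓSpecIso_naturality, ← Category.assoc (e.appLE O ⊤ hO)]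
    congr 1
  exact congrArg (fun ψ => ψ b) key

lemma evT_of_fromSpec {V : X.Opens} (hV : IsAffineOpen V) (φ : Γ(X, V) ⟶ CommRingCat.of ℂ) (c : Pts X)
    (hc : c.1 = Spec.map φ ≫ hV.fromSpec) (b : Γ(X, V)) : evT V b c = φ b := by
  have hφ : strV hV ≫ φ = 𝟙 _ := Spec.map_injective (by
    rw [Spec.map_comp, SpecMap_strV, ← Category.assoc, ← hc, Spec.map_id]; exact c.2)
  obtain rfl : c = mkPt hV φ hφ := Subtype.ext hc
  rw [evT_eq (pt_mkPt_mem hV φ hφ), ev_mkPt]

lemma strV_eq {V : X.Opens} (hV : IsAffineOpen V) :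
    strV hV = (Scheme.ΓSpecIso (CommRingCat.of ℂ)).inv ≫ (X ↘ SC).appLE ⊤ V le_top := by
  refine Spec.map_injective ?_
  rw [SpecMap_strV, Spec.map_comp, ← IsAffineOpen.SpecMap_appLE_fromSpec (X ↘ SC) (isAffineOpen_top _) hV le_top,
    IsAffineOpen.fromSpec_top, Scheme.isoSpec_Spec_inv]

lemma strV_top [IsAffine X] (r : ℂ) : strV (isAffineOpen_top X) r = An.strHom X r := by
  rw [strV_eq]
  change ((Scheme.ΓSpecIso (CommRingCat.of ℂ)).inv ≫ (X ↘ SC).appLE ⊤ ((X ↘ SC) ⁻¹ᵁ ⊤) le_rfl) r = _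
  rw [Scheme.Hom.appLE_eq_app]
  rfl

variable {V : X.Opens} (hV : IsAffineOpen V) {n : Type*}

lemma evHom_comp_strV (c : Pts X) (hc : c.pt ∈ V) : (evHom c V hc).comp (strV hV).hom = RingHom.id ℂ := by
  obtain ⟨φ, hφ, rfl⟩ := exists_mkPt hV c hc
  refine RingHom.ext fun r => ?_
  rw [RingHom.comp_apply, evHom_apply, ev_mkPt]
  exact congrArg (fun ψ => ψ r) hφ

lemma evT_eval (s : n → Γ(X, V)) (c : Pts X) (hc : c.pt ∈ V) (P : MvPolynomial n ℂ) :
    evT V (MvPolynomial.eval₂Hom (strV hV).hom s P) c = MvPolynomial.eval (fun i => evT V (s i) c) P := by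
  rw [evT_eq_evHom hc, MvPolynomial.map_eval₂Hom, evHom_comp_strV hV c hc]
  simp only [evT_eq_evHom hc]
  rfl

include hV in
/-- Generators of the coordinate ring give a closed embedding in affine space. -/
theorem isClosedEmbedding_coord (s : n → Γ(X, V))
    (hs : Function.Surjective (MvPolynomial.eval₂Hom (strV hV).hom s)) :
    IsClosedEmbedding (fun (c : {c : Pts X // c.pt ∈ V}) i => evT V (s i) c.1) := by
  have hcont : Continuous (fun (c : {c : Pts X // c.pt ∈ V}) i => evT V (s i) c.1) :=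
    continuous_pi fun i => continuous_iff_continuousAt.2 fun c =>
      (tendsto_evT (s i) c.2).comp continuous_subtype_val.continuousAt
  refine ⟨⟨isInducing_of_tendsto hcont fun a => ?_, fun c d h => ?_⟩, ?_⟩
  · rw [tendsto_subtype_rng, tendsto_iff_evT hV a.2]
    refine ⟨Eventually.of_forall fun c => c.2, fun b => ?_⟩
    obtain ⟨P, rfl⟩ := hs b
    rw [evT_eval hV s _ a.2]
    refine (((MvPolynomial.continuous_eval P).tendsto _).comp tendsto_comap).congr fun c => ?_
    exact (evT_eval hV s _ c.2 P).symm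
  · obtain ⟨φ, hφ, hc⟩ := exists_mkPt hV c.1 c.2
    obtain ⟨ψ, hψ, hd⟩ := exists_mkPt hV d.1 d.2
    have : φ = ψ := CommRingCat.hom_ext (RingHom.ext fun b => by
      obtain ⟨P, rfl⟩ := hs b
      rw [← evT_of_fromSpec hV φ c.1 (congrArg Subtype.val hc),
        ← evT_of_fromSpec hV ψ d.1 (congrArg Subtype.val hd), evT_eval hV s _ c.2, evT_eval hV s _ d.2]
      exact congrArg (MvPolynomial.eval · P) h)
    subst this
    exact Subtype.ext (hc.trans hd.symm)
  · have hr : Set.range (fun (c : {c : Pts X // c.pt ∈ V}) i => evT V (s i) c.1) =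
        {x | ∀ P ∈ RingHom.ker (MvPolynomial.eval₂Hom (strV hV).hom s), MvPolynomial.eval x P = 0} := by
      refine subset_antisymm ?_ fun x hx => ?_
      · rintro _ ⟨c, rfl⟩ P hP
        rw [← evT_eval hV s _ c.2, show MvPolynomial.eval₂Hom (strV hV).hom s P = 0 from hP,
          evT_eq_evHom c.2, map_zero]
      · let ψ := RingHom.liftOfSurjective _ hs ⟨MvPolynomial.eval x, fun P hP => hx P hP⟩
        have hψ : ∀ P, ψ (MvPolynomial.eval₂Hom (strV hV).hom s P) = MvPolynomial.eval x P :=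
          RingHom.liftOfRightInverse_comp_apply _ _ _ _
        have hφ : strV hV ≫ CommRingCat.ofHom ψ = 𝟙 _ := CommRingCat.hom_ext (RingHom.ext fun r => by
          have := hψ (MvPolynomial.C r)
          simp at this
          exact this)
        refine ⟨⟨mkPt hV _ hφ, pt_mkPt_mem hV _ hφ⟩, funext fun i => ?_⟩
        change evT V (s i) (mkPt hV _ hφ) = x i
        rw [evT_of_fromSpec hV (CommRingCat.ofHom ψ) (mkPt hV _ hφ) rfl]
        simpa using hψ (MvPolynomial.X i)
    rw [hr]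
    simp only [Set.ofPred_forall]
    exact isClosed_iInter fun P => isClosed_iInter fun _ => isClosed_eq (MvPolynomial.continuous_eval P) continuous_const

variable [LocallyOfFiniteType (X ↘ SC)]

include hV in
lemma exists_generators : ∃ (k : ℕ) (s : Fin k → Γ(X, V)),
    Function.Surjective (MvPolynomial.eval₂Hom (strV hV).hom s) := by
  algebraize [(strV hV).hom]
  have : LocallyOfFiniteType (Spec.map (strV hV)) := by rw [SpecMap_strV]; infer_instance
  haveI : Algebra.FiniteType ℂ Γ(X, V) := (HasRingHomProperty.Spec_iff (P := @LocallyOfFiniteType)).1 this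
  obtain ⟨k, π, hπ⟩ := Algebra.FiniteType.iff_quotient_mvPolynomial''.1 ‹Algebra.FiniteType ℂ Γ(X, V)›
  refine ⟨k, fun i => π (MvPolynomial.X i), fun b => ?_⟩
  obtain ⟨P, rfl⟩ := hπ b
  refine ⟨P, ?_⟩
  exact (DFunLike.congr_fun (MvPolynomial.aeval_unique π) P).symm

theorem locallyCompactSpace_pts : LocallyCompactSpace (Pts X) := by
  refine ⟨fun a N hN => ?_⟩
  obtain ⟨_, ⟨V, hV, rfl⟩, haV, -⟩ :=
    X.isBasis_affineOpens.exists_subset_of_mem_open (Set.mem_univ a.pt) isOpen_univ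
  obtain ⟨k, s, hs⟩ := exists_generators hV
  haveI := (isClosedEmbedding_coord hV s hs).locallyCompactSpace
  have he : IsOpenEmbedding (Subtype.val : {c : Pts X // c.pt ∈ V} → Pts X) :=
    (Pts.isOpen_preimage_pt V).isOpenEmbedding_subtypeVal
  obtain ⟨K, hK, hKN, hKc⟩ := local_compact_nhds (x := (⟨a, haV⟩ : {c : Pts X // c.pt ∈ V}))
    (continuous_subtype_val.continuousAt.preimage_mem_nhds hN)
  exact ⟨Subtype.val '' K, he.isOpenMap.image_mem_nhds hK, Set.image_subset_iff.2 hKN, hKc.image continuous_subtype_val⟩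

variable {Y S : Scheme.{0}} [Y.Over An.SC] [S.Over An.SC] (f : X ⟶ S) (g : Y ⟶ S) [f.IsOver An.SC] [g.IsOver An.SC]

omit [LocallyOfFiniteType (X ↘ SC)] in
/-- The complex points of a fibre product carry the product topology. -/
theorem isInducing_pullback : IsInducing (fun z : Pts (Limits.pullback f g) =>
    (Pts.map (Limits.pullback.fst f g) z, Pts.map (Limits.pullback.snd f g) z)) := by
  refine isInducing_of_tendsto ((Pts.continuous_map _).prodMk (Pts.continuous_map _)) fun a => ?_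
  set P := Limits.pullback f g
  obtain ⟨_, ⟨W, hW, rfl⟩, hW', -⟩ := S.isBasis_affineOpens.exists_subset_of_mem_open
    (Set.mem_univ (f (Limits.pullback.fst f g a.pt))) isOpen_univ
  obtain ⟨_, ⟨U, hU, rfl⟩, hU', hUW : U ≤ f ⁻¹ᵁ W⟩ := X.isBasis_affineOpens.exists_subset_of_mem_open
    (show Limits.pullback.fst f g a.pt ∈ f ⁻¹ᵁ W from hW') (f ⁻¹ᵁ W).2
  obtain ⟨_, ⟨V, hV, rfl⟩, hV', hVW : V ≤ g ⁻¹ᵁ W⟩ := Y.isBasis_affineOpens.exists_subset_of_mem_open
    (show Limits.pullback.snd f g a.pt ∈ g ⁻¹ᵁ W by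
      change g (Limits.pullback.snd f g a.pt) ∈ W
      rw [← Scheme.Hom.comp_apply, ← Limits.pullback.condition, Scheme.Hom.comp_apply]
      exact hW') (g ⁻¹ᵁ W).2
  letI := (f.appLE W U hUW).hom.toAlgebra
  letI := (g.appLE W V hVW).hom.toAlgebra
  let e : Spec (.of (Γ(X, U) ⊗[Γ(S, W)] Γ(Y, V))) ⟶ P :=
    (pullbackSpecIso Γ(S, W) Γ(X, U) Γ(Y, V)).inv ≫
      Limits.pullback.map _ _ _ _ (IsAffineOpen.fromSpec hU) (IsAffineOpen.fromSpec hV) (IsAffineOpen.fromSpec hW)
        (IsAffineOpen.SpecMap_appLE_fromSpec f hW hU hUW) (IsAffineOpen.SpecMap_appLE_fromSpec g hW hV hVW)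
  have he1 : e ≫ Limits.pullback.fst f g =
      Spec.map (CommRingCat.ofHom Algebra.TensorProduct.includeLeftRingHom) ≫ IsAffineOpen.fromSpec hU := by
    dsimp only [e, P, Limits.pullback.map]
    erw [Category.assoc, Limits.pullback.lift_fst, ← Category.assoc, pullbackSpecIso_inv_fst]
  have he2 : e ≫ Limits.pullback.snd f g = Spec.map (CommRingCat.ofHom (Algebra.TensorProduct.includeRight
      (R := Γ(S, W)) (A := Γ(X, U))).toRingHom) ≫ IsAffineOpen.fromSpec hV := by
    dsimp only [e, P, Limits.pullback.map]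
    erw [Category.assoc, Limits.pullback.lift_snd, ← Category.assoc, pullbackSpecIso_inv_snd]
    rfl
  haveI : IsOpenImmersion e := inferInstance
  have hrange : Set.range e = Limits.pullback.fst f g ⁻¹' U ∩ Limits.pullback.snd f g ⁻¹' V := by
    change Set.range ((pullbackSpecIso Γ(S, W) Γ(X, U) Γ(Y, V)).inv ≫ _) = _
    rw [Scheme.Hom.comp_base, TopCat.coe_comp, Set.range_comp, Set.range_eq_univ.mpr (Scheme.Hom.surjective _),
      Set.image_univ, Scheme.Pullback.range_map, IsAffineOpen.range_fromSpec, IsAffineOpen.range_fromSpec]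
  let O : P.Opens := e.opensRange
  have hO : IsAffineOpen O := isAffineOpen_opensRange e
  have haO : a.pt ∈ O := by
    change a.pt ∈ Set.range e
    rw [hrange]; exact ⟨hU', hV'⟩
  obtain ⟨t1, t2⟩ := (Filter.tendsto_prod_iff'.1 ((tendsto_comap (f := fun z : Pts P =>
    (Pts.map (Limits.pullback.fst f g) z, Pts.map (Limits.pullback.snd f g) z))).trans (nhds_prod_eq (x := Pts.map
      (Limits.pullback.fst f g) a) (y := Pts.map (Limits.pullback.snd f g) a)).le))
  have haU : (Pts.map (Limits.pullback.fst f g) a).pt ∈ U := by rw [Pts.pt_map]; exact hU'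
  have haV : (Pts.map (Limits.pullback.snd f g) a).pt ∈ V := by rw [Pts.pt_map]; exact hV'
  obtain ⟨u1, u2⟩ := (tendsto_iff_evT hU haU).1 t1
  obtain ⟨v1, v2⟩ := (tendsto_iff_evT hV haV).1 t2
  have hmem : ∀ c : Pts P, (Pts.map (Limits.pullback.fst f g) c).pt ∈ U →
      (Pts.map (Limits.pullback.snd f g) c).pt ∈ V → c.pt ∈ O := fun c h1 h2 => by
    change c.pt ∈ Set.range e
    rw [hrange]
    rw [Pts.pt_map] at h1 h2
    exact ⟨h1, h2⟩
  refine (tendsto_iff_evT hO haO).2 ⟨(u1.and v1).mono fun c h => hmem c h.1 h.2, fun b => ?_⟩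
  have hOle : ⊤ ≤ e ⁻¹ᵁ O := fun x _ => (⟨x, rfl⟩ : e x ∈ Set.range e)
  let t := (Scheme.ΓSpecIso _).hom (e.appLE O ⊤ hOle b)
  obtain ⟨S', hS'⟩ := TensorProduct.exists_finset (R := Γ(S, W)) t
  have hval : ∀ c : Pts P, c.pt ∈ O → evT O b c =
      ∑ p ∈ S', evT U p.1 (Pts.map (Limits.pullback.fst f g) c) * evT V p.2 (Pts.map (Limits.pullback.snd f g) c) := by
    intro c hc
    have hr : Set.range c.1 ⊆ Set.range e := by
      rintro _ ⟨p, rfl⟩; rw [An.eq_cpt p]; exact hc
    let φ := Spec.preimage (IsOpenImmersion.lift e c.1 hr)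
    have hc' : c.1 = Spec.map φ ≫ e := by
      rw [Spec.map_preimage, IsOpenImmersion.lift_fac]
    rw [evT_spec e O hOle φ c hc' b, show (Scheme.ΓSpecIso _).hom (e.appLE O ⊤ hOle b) = t from rfl, hS', map_sum]
    refine Finset.sum_congr rfl fun p _ => ?_
    have e1 := evT_of_fromSpec hU (CommRingCat.ofHom Algebra.TensorProduct.includeLeftRingHom ≫ φ)
      (Pts.map (Limits.pullback.fst f g) c)
      (by rw [Pts.map_val, hc', Category.assoc, he1, Spec.map_comp, Category.assoc]) p.1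
    have e2 := evT_of_fromSpec hV (CommRingCat.ofHom (Algebra.TensorProduct.includeRight
        (R := Γ(S, W)) (A := Γ(X, U))).toRingHom ≫ φ)
      (Pts.map (Limits.pullback.snd f g) c)
      (by rw [Pts.map_val, hc', Category.assoc, he2, Spec.map_comp, Category.assoc]) p.2
    rw [e1, e2]
    change φ (p.1 ⊗ₜ p.2) = φ (p.1 ⊗ₜ 1) * φ (1 ⊗ₜ p.2)
    rw [← map_mul, Algebra.TensorProduct.tmul_mul_tmul, mul_one, one_mul]
  rw [hval a haO]
  exact (tendsto_finsetSum _ fun p _ => (u2 p.1).mul (v2 p.2)).congr'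
    ((u1.and v1).mono fun c h => (hval c (hmem c h.1 h.2)).symm)

/-- A pair of complex points with the same image comes from the fibre product. -/
lemma exists_pullback_pt (x : Pts X) (y : Pts Y) (h : Pts.map f x = Pts.map g y) :
    ∃ z : Pts (Limits.pullback f g),
      Pts.map (Limits.pullback.fst f g) z = x ∧ Pts.map (Limits.pullback.snd f g) z = y :=
  ⟨⟨Limits.pullback.lift x.1 y.1 (congrArg Subtype.val h),
    (Category.assoc _ _ _).symm.trans ((congrArg (· ≫ (X ↘ SC)) (Limits.pullback.lift_fst _ _ _)).trans x.2)⟩,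
    Subtype.ext (Limits.pullback.lift_fst _ _ _), Subtype.ext (Limits.pullback.lift_snd _ _ _)⟩

end Groth.Agent.AnBasic
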