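import Groth.Agent.AnBasic.Monodromy
import Groth.Agent.AnBasic.Product

/-!
# Complex points of irreducible sets are connected
-/

set_option autoImplicit false

open Filter Topology
open scoped Polynomial

namespace Groth.Agent.AnBasic

section Affine

variable {B : Type} [CommRing B] [IsDomain B] [Algebra ℂ B]

/-- A point over a given point of affine space with prescribed value at an integral element. -/
lemma exists_point_of_root [Algebra.FiniteType ℂ B] {s : ℕ} (ι : MvPolynomial (Fin s) ℂ →ₐ[ℂ] B)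
    (hι : Function.Injective ι) (hfin : ι.Finite) (h : B) (x : Fin s → ℂ) (t : ℂ)
    (ht : letI := ι.toRingHom.toAlgebra;
      ((minpoly (MvPolynomial (Fin s) ℂ) h).map (MvPolynomial.eval x)).IsRoot t) :
    ∃ φ : B →ₐ[ℂ] ℂ, (∀ P, φ (ι P) = MvPolynomial.eval x P) ∧ φ h = t := by
  letI : Algebra (MvPolynomial (Fin s) ℂ) B := ι.toRingHom.toAlgebra
  haveI : IsScalarTower ℂ (MvPolynomial (Fin s) ℂ) B := IsScalarTower.of_algebraMap_eq fun c => (ι.commutes c).symm
  haveI : Module.Finite (MvPolynomial (Fin s) ℂ) B := hfin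
  haveI : FaithfulSMul (MvPolynomial (Fin s) ℂ) B := (faithfulSMul_iff_algebraMap_injective _ _).2 hι
  haveI : Algebra.IsIntegral (MvPolynomial (Fin s) ℂ) B := Algebra.IsIntegral.of_finite _ _
  have hint : ∀ b : B, IsIntegral (MvPolynomial (Fin s) ℂ) b := fun b => Algebra.IsIntegral.isIntegral b
  let e : (MvPolynomial (Fin s) ℂ)[X] →+* ℂ := Polynomial.eval₂RingHom (MvPolynomial.eval x) t
  have hQe : e (minpoly (MvPolynomial (Fin s) ℂ) h) = 0 := by
    simpa [e, Polynomial.IsRoot.def, Polynomial.eval_map] using ht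
  let a : (MvPolynomial (Fin s) ℂ)[X] →+* B := (Polynomial.aeval h).toRingHom
  have hker : RingHom.ker a ≤ RingHom.ker e := fun p hp => by
    obtain ⟨c, rfl⟩ := minpoly.isIntegrallyClosed_dvd (hint h) (show (Polynomial.aeval h) p = 0 from hp)
    rw [RingHom.mem_ker, map_mul, hQe, zero_mul]
  have haint : a.IsIntegral := by
    refine RingHom.IsIntegral.tower_top (Polynomial.C : MvPolynomial (Fin s) ℂ →+* _) a ?_
    have hcomp : a.comp (Polynomial.C : MvPolynomial (Fin s) ℂ →+* _) = algebraMap (MvPolynomial (Fin s) ℂ) B :=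
      RingHom.ext fun p => by simp [a]
    rw [hcomp]
    exact fun b => hint b
  letI := a.toAlgebra
  haveI : Algebra.IsIntegral (MvPolynomial (Fin s) ℂ)[X] B := ⟨haint⟩
  haveI : (RingHom.ker e).IsPrime := RingHom.ker_isPrime e
  obtain ⟨M, -, hM, hMe⟩ := Ideal.exists_ideal_over_prime_of_isIntegral (RingHom.ker e) (⊥ : Ideal B)
    (by rw [← RingHom.ker_eq_comap_bot]; exact hker)
  have hesurj : Function.Surjective e := fun c => ⟨Polynomial.C (MvPolynomial.C c), by simp [e]⟩
  haveI : (RingHom.ker e).IsMaximal := RingHom.ker_isMaximal_of_surjective e hesurj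
  haveI hMmax : M.IsMaximal := Ideal.isMaximal_of_isIntegral_of_isMaximal_comap (R := (MvPolynomial (Fin s) ℂ)[X]) M
    (by rw [hMe]; infer_instance)
  letI := Ideal.Quotient.field M
  haveI : Module.Finite ℂ (B ⧸ M) := finite_of_finite_type_of_isJacobsonRing ℂ (B ⧸ M)
  let eq : ℂ ≃ₐ[ℂ] B ⧸ M := AlgEquiv.ofBijective (Algebra.ofId ℂ (B ⧸ M))
    IsAlgClosed.algebraMap_bijective_of_isIntegral
  let φ : B →ₐ[ℂ] ℂ := eq.symm.toAlgHom.comp (Ideal.Quotient.mkₐ ℂ M)
  have hval : ∀ p, φ (a p) = e p := fun p => by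
    have hp : p - Polynomial.C (MvPolynomial.C (e p)) ∈ RingHom.ker e := by simp [e]
    rw [← hMe] at hp
    have hp' : a p - algebraMap ℂ B (e p) ∈ M := by
      have : a (Polynomial.C (MvPolynomial.C (e p))) = algebraMap ℂ B (e p) := by
        simp only [a, AlgHom.toRingHom_eq_coe, RingHom.coe_coe, Polynomial.aeval_C]
        exact ι.commutes _
      rw [← this, ← map_sub]
      exact hp
    change eq.symm (Ideal.Quotient.mk M (a p)) = e p
    rw [Ideal.Quotient.eq.2 hp']
    exact eq.symm_apply_apply (e p)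
  refine ⟨φ, fun P => ?_, ?_⟩
  · simpa [a, e, RingHom.algebraMap_toAlgebra] using hval (Polynomial.C P)
  · simpa [a, e] using hval Polynomial.X

/-- The complex points of an affine variety off some hypersurface are the roots of an irreducible family. -/
theorem exists_root_param [Algebra.FiniteType ℂ B] : ∃ g : B, g ≠ 0 ∧
    ∃ (n : ℕ) (F : (MvPolynomial (Fin n) ℂ)[X]) (G : MvPolynomial (Fin n) ℂ)
      (Φ : (Fin n → ℂ) × ℂ → (B →ₐ[ℂ] ℂ)),
      F.Monic ∧ Irreducible F ∧ G ≠ 0 ∧
      (∀ x, MvPolynomial.eval x G ≠ 0 → (F.map (MvPolynomial.eval x)).roots.Nodup) ∧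
      (∀ b, ContinuousOn (fun z => Φ z b) (rootLocus F G)) ∧
      (∀ z ∈ rootLocus F G, Φ z g ≠ 0) ∧ (∀ χ, χ g ≠ 0 → ∃ z ∈ rootLocus F G, Φ z = χ) ∧
      (∀ b, ∃ (p : (MvPolynomial (Fin n) ℂ)[X]) (G₀ : MvPolynomial (Fin n) ℂ),
        ∀ z ∈ rootLocus F G, MvPolynomial.eval z.1 G₀ ≠ 0 ∧
          Φ z b = (p.map (MvPolynomial.eval z.1)).eval z.2 / MvPolynomial.eval z.1 G₀) ∧
      (∀ b, ∃ (C : ℝ) (N : ℕ), 0 ≤ C ∧ ∀ z ∈ rootLocus F G, ‖Φ z b‖ ≤ C * (1 + ‖z.1‖) ^ N) := by
  classical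
  obtain ⟨s, ι, hι, hfin⟩ := exists_finite_inj_algHom_of_fg ℂ B
  letI : Algebra (MvPolynomial (Fin s) ℂ) B := ι.toRingHom.toAlgebra
  haveI : IsScalarTower ℂ (MvPolynomial (Fin s) ℂ) B := IsScalarTower.of_algebraMap_eq fun c => (ι.commutes c).symm
  haveI : Module.Finite (MvPolynomial (Fin s) ℂ) B := hfin
  haveI hfs : FaithfulSMul (MvPolynomial (Fin s) ℂ) B := (faithfulSMul_iff_algebraMap_injective _ _).2 hι
  haveI : Algebra.IsIntegral (MvPolynomial (Fin s) ℂ) B := Algebra.IsIntegral.of_finite _ _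
  have hint : ∀ b : B, IsIntegral (MvPolynomial (Fin s) ℂ) b := fun b => Algebra.IsIntegral.isIntegral b
  -- clearing denominators in the fraction field
  have hden : ∀ b : B, b ≠ 0 → ∃ a : MvPolynomial (Fin s) ℂ, a ≠ 0 ∧ ι a ∈ Ideal.span {b} := fun b hb => by
    have h0 : (Ideal.span {b}).comap (algebraMap (MvPolynomial (Fin s) ℂ) B) ≠ ⊥ :=
      Ideal.IsIntegral.comap_ne_bot _ (by simpa using hb)
    obtain ⟨G, hG, hG0⟩ := Submodule.exists_mem_ne_zero_of_ne_bot h0
    exact ⟨G, hG0, hG⟩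
  let L := FractionRing B
  let K := FractionRing (MvPolynomial (Fin s) ℂ)
  haveI : FaithfulSMul (MvPolynomial (Fin s) ℂ) L := (faithfulSMul_iff_algebraMap_injective _ _).2 (by
    rw [IsScalarTower.algebraMap_eq (MvPolynomial (Fin s) ℂ) B L]
    exact (IsFractionRing.injective B L).comp hι)
  letI : Algebra K L := FractionRing.liftAlgebra (MvPolynomial (Fin s) ℂ) L
  haveI : IsScalarTower (MvPolynomial (Fin s) ℂ) K L := inferInstance
  have hmul : ∀ z : L, ∃ a : MvPolynomial (Fin s) ℂ, a ≠ 0 ∧ ∃ b : B, algebraMap B L b = a • z := by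
    intro z
    obtain ⟨b, ⟨b', hb'⟩, hz⟩ := IsLocalization.exists_mk'_eq (nonZeroDivisors B) z
    obtain ⟨a, ha, hab⟩ := hden b' (nonZeroDivisors.ne_zero hb')
    obtain ⟨c, hc⟩ := Ideal.mem_span_singleton'.1 hab
    refine ⟨a, ha, c * b, ?_⟩
    rw [← hz, Algebra.smul_def, IsScalarTower.algebraMap_apply (MvPolynomial (Fin s) ℂ) B L,
      show algebraMap (MvPolynomial (Fin s) ℂ) B a = c * b' from hc.symm, map_mul, map_mul, mul_assoc,
      show algebraMap B L b' = algebraMap B L (⟨b', hb'⟩ : nonZeroDivisors B) from rfl, IsLocalization.mk'_spec']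
  obtain ⟨M, hM⟩ := (inferInstance : Module.Finite (MvPolynomial (Fin s) ℂ) B).fg_top
  haveI : FiniteDimensional K L := by
    refine ⟨⟨M.image (algebraMap B L), ?_⟩⟩
    rw [Finset.coe_image, eq_top_iff]
    rintro z -
    have hbm' : ∀ b : B, algebraMap B L b ∈ Submodule.span K (algebraMap B L '' (M : Set B)) := fun b => by
      have hb' : b ∈ Submodule.span (MvPolynomial (Fin s) ℂ) (M : Set B) := hM ▸ trivial
      induction hb' using Submodule.span_induction with
      | mem y hy => exact Submodule.subset_span ⟨y, hy, rfl⟩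
      | zero => simp
      | add y y' _ _ h h' => rw [map_add]; exact add_mem h h'
      | smul r y _ h =>
        rw [Algebra.algebraMap_eq_smul_one, smul_assoc, ← Algebra.algebraMap_eq_smul_one,
          ← algebraMap_smul K r (algebraMap B L y)]
        exact Submodule.smul_mem _ _ h
    obtain ⟨a, ha, b, hb⟩ := hmul z
    have hbm := hbm' b
    rw [hb, ← algebraMap_smul K a z] at hbm
    exact (Submodule.smul_mem_iff _ (fun h => ha (IsFractionRing.injective (MvPolynomial (Fin s) ℂ) K (h.trans (map_zero _).symm)))).1 hbm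
  obtain ⟨α, hα⟩ := Field.exists_primitive_element K L
  obtain ⟨a₀, ha₀, θ, hθ⟩ := hmul α
  have ha₀K : algebraMap (MvPolynomial (Fin s) ℂ) K a₀ ≠ 0 := fun h =>
    ha₀ (IsFractionRing.injective (MvPolynomial (Fin s) ℂ) K (h.trans (map_zero _).symm))
  have hadj : Algebra.adjoin K {algebraMap B L θ} = ⊤ := by
    rw [hθ, ← algebraMap_smul K a₀ α]
    rw [eq_top_iff, ← IntermediateField.top_toSubalgebra, ← hα,
      IntermediateField.adjoin_simple_toSubalgebra_of_isAlgebraic (Algebra.IsAlgebraic.isAlgebraic α)]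
    refine Algebra.adjoin_le (Set.singleton_subset_iff.2 ?_)
    have h1 := Subalgebra.smul_mem (Algebra.adjoin K {algebraMap (MvPolynomial (Fin s) ℂ) K a₀ • α})
      (Algebra.subset_adjoin rfl) (algebraMap (MvPolynomial (Fin s) ℂ) K a₀)⁻¹
    rw [inv_smul_smul₀ ha₀K] at h1
    exact h1
  have hrep : ∀ b : B, ∃ a : MvPolynomial (Fin s) ℂ, a ≠ 0 ∧
      ∃ p : (MvPolynomial (Fin s) ℂ)[X], ι a * b = Polynomial.aeval θ p := by
    intro b
    obtain ⟨q, hq⟩ : ∃ q : K[X], Polynomial.aeval (algebraMap B L θ) q = algebraMap B L b := by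
      have : algebraMap B L b ∈ Algebra.adjoin K {algebraMap B L θ} := hadj ▸ trivial
      rw [Algebra.adjoin_singleton_eq_range_aeval] at this
      exact this
    obtain ⟨⟨a, ha⟩, hpa⟩ := IsLocalization.integerNormalization_map_to_map (nonZeroDivisors (MvPolynomial (Fin s) ℂ)) q
    refine ⟨a, nonZeroDivisors.ne_zero ha, IsLocalization.integerNormalization (nonZeroDivisors _) q, ?_⟩
    apply IsFractionRing.injective B L
    rw [← Polynomial.aeval_algebraMap_apply, ← Polynomial.aeval_map_algebraMap K, hpa,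
      ← algebraMap_smul K, map_smul, algebraMap_smul, hq, map_mul, Algebra.smul_def,
      IsScalarTower.algebraMap_apply (MvPolynomial (Fin s) ℂ) B L]
    rfl
  choose am ham pm hpm using hrep
  let G₀ := ∏ m ∈ M, am m
  have hG₀ : G₀ ≠ 0 := Finset.prod_ne_zero_iff.2 fun m _ => ham m
  have hrep' : ∀ b : B, ∃ p : (MvPolynomial (Fin s) ℂ)[X], ι G₀ * b = Polynomial.aeval θ p := by
    intro b
    have hb' : b ∈ Submodule.span (MvPolynomial (Fin s) ℂ) (M : Set B) := hM ▸ trivial
    induction hb' using Submodule.span_induction with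
    | mem y hy =>
      refine ⟨Polynomial.C (∏ m ∈ M.erase y, am m) * pm y, ?_⟩
      rw [map_mul, ← hpm, Polynomial.aeval_C, show G₀ = am y * ∏ m ∈ M.erase y, am m from
        (Finset.mul_prod_erase M am hy).symm, map_mul]
      change _ = ι _ * _
      ring
    | zero => exact ⟨0, by simp⟩
    | add y y' _ _ h h' =>
      obtain ⟨p, hp⟩ := h; obtain ⟨p', hp'⟩ := h'
      exact ⟨p + p', by rw [mul_add, map_add, hp, hp']⟩
    | smul r y _ h =>
      obtain ⟨p, hp⟩ := h
      exact ⟨Polynomial.C r * p, by rw [map_mul, Polynomial.aeval_C, ← hp, Algebra.smul_def]; ring⟩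
  let F := minpoly (MvPolynomial (Fin s) ℂ) θ
  have hF : F.Monic := minpoly.monic (hint θ)
  have hd' : Polynomial.aeval θ (Polynomial.derivative F) ≠ 0 := fun h0 => by
    have hne : Polynomial.derivative F ≠ 0 := fun h => by
      have hd := minpoly.natDegree_pos (hint θ)
      have := congrArg (fun p => Polynomial.coeff p (F.natDegree - 1)) h
      simp only [Polynomial.coeff_derivative, Polynomial.coeff_zero] at this
      rw [Nat.sub_add_cancel hd, hF.coeff_natDegree, one_mul] at this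
      exact Nat.cast_add_one_ne_zero _ this
    exact absurd (minpoly.IsIntegrallyClosed.degree_le_of_ne_zero hne h0)
      (not_le.2 (Polynomial.degree_derivative_lt hF.ne_zero))
  obtain ⟨G₁, hG₁, hG₁mem⟩ := hden _ hd'
  obtain ⟨c₁, hc₁⟩ := Ideal.mem_span_singleton'.1 hG₁mem
  let G := G₀ * G₁
  have hG : G ≠ 0 := mul_ne_zero hG₀ hG₁
  have hφeval : ∀ (φ : B →ₐ[ℂ] ℂ) (x : Fin s → ℂ), (∀ P, φ (ι P) = MvPolynomial.eval x P) → ∀ p,
      φ (Polynomial.aeval θ p) = (p.map (MvPolynomial.eval x)).eval (φ θ) := fun φ x hx p => by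
    have hc : φ.toRingHom.comp (algebraMap (MvPolynomial (Fin s) ℂ) B) = MvPolynomial.eval x := RingHom.ext hx
    rw [Polynomial.eval_map, Polynomial.aeval_def, ← hc]
    exact Polynomial.hom_eval₂ p _ φ.toRingHom θ
  have hsimple : ∀ x, MvPolynomial.eval x G ≠ 0 → (F.map (MvPolynomial.eval x)).roots.Nodup := by
    intro x hx
    rw [map_mul] at hx
    refine Multiset.nodup_iff_count_le_one.2 fun t => ?_
    rw [Polynomial.count_roots]
    by_contra hlt
    obtain ⟨h1, h2⟩ := (Polynomial.one_lt_rootMultiplicity_iff_isRoot (hF.map (MvPolynomial.eval x)).ne_zero).1 (not_le.1 hlt)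
    obtain ⟨φ, hφ, hφθ⟩ := exists_point_of_root ι hι hfin θ x t h1
    refine (mul_ne_zero_iff.1 hx).2 ?_
    rw [← hφ G₁, ← hc₁, map_mul, hφeval φ x hφ, hφθ, ← Polynomial.derivative_map, h2.eq_zero, mul_zero]
  have hev : ∀ (χ : B →ₐ[ℂ] ℂ) P, χ (ι P) = MvPolynomial.eval (fun i => χ (ι (MvPolynomial.X i))) P := fun χ P => by
    rw [← AlgHom.comp_apply, MvPolynomial.aeval_unique (χ.comp ι)]
    rfl
  obtain ⟨χ₀, -⟩ : ∃ χ : B →ₐ[ℂ] ℂ, True := by
    obtain ⟨x₀, hx₀⟩ : ∃ x₀, MvPolynomial.eval x₀ G ≠ 0 := by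
      by_contra h
      push Not at h
      exact hG (MvPolynomial.funext fun v => by simpa using h v)
    obtain ⟨t, ht⟩ := IsAlgClosed.exists_root (F.map (MvPolynomial.eval x₀)) (by
      rw [Polynomial.degree_eq_natDegree (hF.map _).ne_zero, hF.natDegree_map]
      exact_mod_cast (minpoly.natDegree_pos (hint θ)).ne')
    exact ⟨(exists_point_of_root ι hι hfin θ x₀ t ht).choose, trivial⟩
  haveI : Nonempty (B →ₐ[ℂ] ℂ) := ⟨χ₀⟩
  let Φ : (Fin s → ℂ) × ℂ → (B →ₐ[ℂ] ℂ) := fun z =>
    if h : (F.map (MvPolynomial.eval z.1)).IsRoot z.2 then (exists_point_of_root ι hι hfin θ z.1 z.2 h).choose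
    else χ₀
  have hΦ : ∀ z ∈ rootLocus F G, (∀ P, Φ z (ι P) = MvPolynomial.eval z.1 P) ∧ Φ z θ = z.2 := fun z hz => by
    simp only [Φ, dif_pos hz.2]
    exact (exists_point_of_root ι hι hfin θ z.1 z.2 hz.2).choose_spec
  refine ⟨ι G, fun h => hG (hι (h.trans (map_zero _).symm)), s, F, G, Φ, hF,
    minpoly.irreducible (hint θ), hG, hsimple, fun b => ?_,
    fun z hz => by rw [(hΦ z hz).1]; exact hz.1, fun χ hχ => ?_, fun b => ?_, fun b => ?_⟩
  · obtain ⟨p, hp⟩ := hrep' b
    have heq : ∀ z ∈ rootLocus F G, Φ z b =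
        (p.map (MvPolynomial.eval z.1)).eval z.2 / MvPolynomial.eval z.1 G₀ := fun z hz => by
      have h0 : MvPolynomial.eval z.1 G₀ ≠ 0 := fun h => hz.1 (by rw [map_mul, h, zero_mul])
      rw [eq_div_iff h0, ← (hΦ z hz).1 G₀, mul_comm, ← map_mul, hp, hφeval _ _ (hΦ z hz).1, (hΦ z hz).2]
    refine ContinuousOn.congr (ContinuousOn.div ?_ ?_ fun z hz h => hz.1 (by rw [map_mul, h, zero_mul])) heq
    · simp only [Polynomial.eval_map, Polynomial.eval₂_eq_sum_range]
      exact continuousOn_finsetSum _ fun i _ => (((MvPolynomial.continuous_eval (p.coeff i)).comp continuous_fst).mul (continuous_snd.pow i)).continuousOn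
    · exact ((MvPolynomial.continuous_eval G₀).comp continuous_fst).continuousOn
  · have hz : ((fun i => χ (ι (MvPolynomial.X i))), χ θ) ∈ rootLocus F G := by
      refine ⟨by rw [← hev]; exact hχ, ?_⟩
      rw [Polynomial.IsRoot.def, ← hφeval χ _ (hev χ), minpoly.aeval, map_zero]
    refine ⟨_, hz, AlgHom.ext fun b => ?_⟩
    obtain ⟨p, hp⟩ := hrep' b
    obtain ⟨h1, h2⟩ := hΦ _ hz
    have h0 : χ (ι G₀) ≠ 0 := fun h => hχ (by rw [map_mul, map_mul, h, zero_mul])
    refine mul_left_cancel₀ h0 ?_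
    conv_lhs => rw [hev χ G₀, ← h1 G₀, ← map_mul, hp, hφeval _ _ h1, h2]
    rw [← map_mul, hp, hφeval χ _ (hev χ)]

  · obtain ⟨p, hp⟩ := hrep' b
    refine ⟨p, G₀, fun z hz => ?_⟩
    have h0 : MvPolynomial.eval z.1 G₀ ≠ 0 := fun h => hz.1 (by rw [map_mul, h, zero_mul])
    refine ⟨h0, ?_⟩
    rw [eq_div_iff h0, ← (hΦ z hz).1 G₀, mul_comm, ← map_mul, hp, hφeval _ _ (hΦ z hz).1, (hΦ z hz).2]
  · -- the value is a root of the minimal polynomial
    let Fb := minpoly (MvPolynomial (Fin s) ℂ) b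
    choose Ci Ni hCi hbi using fun i : ℕ => exists_growth (Fb.coeff i)
    have hsum0 : 0 ≤ ∑ i ∈ Finset.range Fb.natDegree, Ci i := Finset.sum_nonneg fun i _ => hCi i
    refine ⟨1 + ∑ i ∈ Finset.range Fb.natDegree, Ci i, ∑ i ∈ Finset.range Fb.natDegree, Ni i,
      by positivity, fun z hz => ?_⟩
    have hc : (Φ z).toRingHom.comp (algebraMap (MvPolynomial (Fin s) ℂ) B) = MvPolynomial.eval z.1 :=
      RingHom.ext (hΦ z hz).1
    have hr : (Fb.map (MvPolynomial.eval z.1)).IsRoot (Φ z b) := by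
      rw [Polynomial.IsRoot.def, Polynomial.eval_map, ← hc]
      exact (Polynomial.hom_eval₂ Fb _ (Φ z).toRingHom b).symm.trans (by
        rw [← Polynomial.aeval_def, minpoly.aeval, map_zero])
    refine (norm_root_le _ ((minpoly.monic (hint b)).map _) hr).trans ?_
    rw [(minpoly.monic (hint b)).natDegree_map, add_mul, Finset.sum_mul]
    refine add_le_add (by rw [one_mul]; exact one_le_pow₀ (by simp)) (Finset.sum_le_sum fun i hi => ?_)
    rw [Polynomial.coeff_map]
    exact (hbi i z.1).trans (mul_le_mul_of_nonneg_left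
      (pow_le_pow_right₀ (by simp) (Finset.single_le_sum (f := Ni) (fun _ _ => Nat.zero_le _) hi)) (hCi i))

end Affine

open CategoryTheory AlgebraicGeometry TopologicalSpace An

variable {X : Scheme.{0}} [X.Over An.SC] [LocallyOfFiniteType (X ↘ An.SC)]

/-- The complex points near the generic point of an irreducible closed set, as roots of an irreducible family. -/
theorem exists_param_closure (η : ↥X) :
    ∃ (n : ℕ) (F : (MvPolynomial (Fin n) ℂ)[X]) (G : MvPolynomial (Fin n) ℂ) (P : (Fin n → ℂ) × ℂ → Pts X)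
      (T : Set ↥X), F.Monic ∧ Irreducible F ∧ G ≠ 0 ∧
      (∀ x, MvPolynomial.eval x G ≠ 0 → (F.map (MvPolynomial.eval x)).roots.Nodup) ∧
      ContinuousOn P (rootLocus F G) ∧ (Pts.pt ⁻¹' T : Set (Pts X)) = P '' rootLocus F G ∧
      T ⊆ closure {η} ∧ IsLocallyConstructible T ∧ closure ({η} : Set ↥X) ⊆ closure T ∧
      ∀ u : Γ(X, ⊤), (∃ (p : (MvPolynomial (Fin n) ℂ)[X]) (G₀ : MvPolynomial (Fin n) ℂ),
        ∀ z ∈ rootLocus F G, MvPolynomial.eval z.1 G₀ ≠ 0 ∧
          (P z).evTop u = (p.map (MvPolynomial.eval z.1)).eval z.2 / MvPolynomial.eval z.1 G₀) ∧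
        (∃ (C : ℝ) (N : ℕ), 0 ≤ C ∧ ∀ z ∈ rootLocus F G, ‖(P z).evTop u‖ ≤ C * (1 + ‖z.1‖) ^ N) := by
  classical
  obtain ⟨_, ⟨V, hV, rfl⟩, hηV, -⟩ :=
    X.isBasis_affineOpens.exists_subset_of_mem_open (Set.mem_univ η) isOpen_univ
  replace hV : IsAffineOpen V := hV
  algebraize [(strV hV).hom]
  haveI : Algebra.FiniteType ℂ Γ(X, V) := by
    have : LocallyOfFiniteType (Spec.map (strV hV)) := by rw [SpecMap_strV]; infer_instance
    exact (HasRingHomProperty.Spec_iff (P := @LocallyOfFiniteType)).1 this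
  let q := hV.primeIdealOf ⟨η, hηV⟩
  obtain ⟨g, hg, n, F, G, Φ, hF, hirr, hG, hsimple, hcont, hΦg, hsurj, hform, hgrowth⟩ :=
    exists_root_param (B := Γ(X, V) ⧸ q.asIdeal)
  let S := rootLocus F G
  obtain ⟨g', rfl⟩ := Ideal.Quotient.mk_surjective g
  have hmk : ∀ z, strV hV ≫ CommRingCat.ofHom ((Φ z).comp (Ideal.Quotient.mkₐ ℂ q.asIdeal)).toRingHom = 𝟙 _ :=
    fun z => CommRingCat.hom_ext (RingHom.ext fun r => ((Φ z).comp (Ideal.Quotient.mkₐ ℂ q.asIdeal)).commutes r)
  let P : (Fin n → ℂ) × ℂ → Pts X := fun z => mkPt hV _ (hmk z)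
  have hPV : ∀ z, (P z).pt ∈ V := fun z => pt_mkPt_mem hV _ _
  have hev : ∀ z b, evT V b (P z) = Φ z (Ideal.Quotient.mk q.asIdeal b) := fun z b => by
    exact evT_of_fromSpec hV _ (P z) rfl b
  have hPc : ContinuousOn P S := fun z hz => by
    refine (tendsto_iff_evT hV (hPV z)).2 ⟨Eventually.of_forall hPV, fun b => ?_⟩
    simp only [hev]
    exact hcont _ z hz
  -- the generic locus
  let T : Set ↥X := closure {η} ∩ X.basicOpen g'
  have hηT : η ∈ T := by
    refine ⟨subset_closure rfl, ?_⟩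
    have h1 : q ∈ hV.fromSpec ⁻¹ᵁ X.basicOpen g' := by
      rw [hV.fromSpec_preimage_basicOpen]
      exact fun h => hg (Ideal.Quotient.eq_zero_iff_mem.2 h)
    have h2 : hV.fromSpec q = η := hV.fromSpec_primeIdealOf ⟨η, hηV⟩
    exact h2 ▸ h1
  have hT : IsLocallyConstructible T := by
    have := (isLocallyConstructible_of_isClosed (isClosed_closure (s := ({η} : Set ↥X)))).inter
      (isLocallyConstructible_compl (isLocallyConstructible_of_isClosed (X.basicOpen g').2.isClosed_compl))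
    rwa [compl_compl] at this
  have himg : (Pts.pt ⁻¹' T : Set (Pts X)) = P '' S := by
    refine subset_antisymm (fun c hc => ?_) ?_
    · obtain ⟨φ, hφ, rfl⟩ := exists_mkPt hV c (X.basicOpen_le g' hc.2)
      have hle : q ≤ kerPt φ := by
        refine (PrimeSpectrum.le_iff_specializes q (kerPt φ)).2 ?_
        refine (hV.fromSpec.isOpenEmbedding.isInducing.specializes_iff (x := q) (y := kerPt φ)).1 ?_
        refine specializes_iff_mem_closure.2 ?_
        have h2 : hV.fromSpec q = η := hV.fromSpec_primeIdealOf ⟨η, hηV⟩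
        rw [h2, ← pt_mkPt hV φ hφ]
        exact hc.1
      let χ : Γ(X, V) ⧸ q.asIdeal →ₐ[ℂ] ℂ := Ideal.Quotient.liftₐ q.asIdeal
        { φ.hom with commutes' := fun r => congrArg (fun ψ => ψ r) hφ } fun x hx => hle hx
      have hχg : χ (Ideal.Quotient.mk q.asIdeal g') ≠ 0 := by
        change φ g' ≠ 0
        rw [← ev_mkPt hV φ hφ (pt_mkPt_mem hV φ hφ)]
        exact (mem_basicOpen_iff hV _ (pt_mkPt_mem hV φ hφ) g').1 hc.2
      obtain ⟨z, hz, hzχ⟩ := hsurj χ hχg
      refine ⟨z, hz, ?_⟩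
      have hφeq : CommRingCat.ofHom ((Φ z).comp (Ideal.Quotient.mkₐ ℂ q.asIdeal)).toRingHom = φ :=
        CommRingCat.hom_ext (RingHom.ext fun b => by rw [hzχ]; rfl)
      simp only [P]
      exact Subtype.ext (congrArg (fun ψ => Spec.map ψ ≫ hV.fromSpec) hφeq)
    · rintro _ ⟨z, hz, rfl⟩
      refine ⟨?_, ?_⟩
      · rw [← specializes_iff_mem_closure, pt_mkPt]
        have h2 : hV.fromSpec q = η := hV.fromSpec_primeIdealOf ⟨η, hηV⟩
        rw [← h2]
        refine Specializes.map ?_ hV.fromSpec.continuous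
        refine (PrimeSpectrum.le_iff_specializes q _).1 ?_
        intro x hx
        change Φ z (Ideal.Quotient.mk q.asIdeal x) = 0
        rw [Ideal.Quotient.eq_zero_iff_mem.2 hx, map_zero]
      · refine (mem_basicOpen_iff hV _ (hPV z) g').2 ?_
        rw [← evT_eq (hPV z), hev]
        exact hΦg z hz
  have hsub : closure ({η} : Set ↥X) ⊆ closure T := closure_mono (Set.singleton_subset_iff.2 hηT)
  refine ⟨n, F, G, P, T, hF, hirr, hG, hsimple, hPc, himg, Set.inter_subset_left, hT, hsub, fun u => ?_⟩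
  have hu : ∀ z, (P z).evTop u =
      Φ z (Ideal.Quotient.mk q.asIdeal (X.presheaf.map (homOfLE (le_top : V ≤ ⊤)).op u)) := fun z => by
    rw [← hev, evT_eq (hPV z), ev_res]
  simp only [hu]
  exact ⟨hform _, hgrowth _⟩

/-- The complex points of the closure of a point form a connected set. -/
theorem isPreconnected_pts_closure (η : ↥X) :
    IsPreconnected (Pts.pt ⁻¹' closure ({η} : Set ↥X) : Set (Pts X)) := by
  obtain ⟨n, F, G, P, T, hF, hirr, hG, hsimple, hPc, himg, hTsub, hT, hsub, -⟩ := exists_param_closure η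
  exact IsPreconnected.subset_closure (s := Pts.pt ⁻¹' T)
    (himg ▸ (isPreconnected_rootLocus hF hirr hG hsimple).image P hPc)
    (Set.preimage_mono hTsub) fun c hc => mem_closure_pts hT c (hsub hc)

/-- Each point has a neighbourhood of points sharing a generization with it. -/
theorem exists_nhds_generization (x : ↥X) : ∃ N ∈ 𝓝 x, ∀ y ∈ N, ∃ η : ↥X, η ⤳ y ∧ η ⤳ x := by
  classical
  haveI : IsLocallyNoetherian (An.SC : Scheme.{0}) := inferInstanceAs (IsLocallyNoetherian (Spec (CommRingCat.of ℂ)))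
  haveI : IsLocallyNoetherian X := LocallyOfFiniteType.isLocallyNoetherian (X ↘ An.SC)
  obtain ⟨_, ⟨V, hV, rfl⟩, hxV, -⟩ :=
    X.isBasis_affineOpens.exists_subset_of_mem_open (Set.mem_univ x) isOpen_univ
  replace hV : IsAffineOpen V := hV
  haveI : IsNoetherianRing Γ(X, V) := IsLocallyNoetherian.component_noetherian ⟨V, hV⟩
  let p := hV.primeIdealOf ⟨x, hxV⟩
  have hp : hV.fromSpec p = x := hV.fromSpec_primeIdealOf ⟨x, hxV⟩
  let bad := (minimalPrimes.finite_of_isNoetherianRing Γ(X, V)).toFinset.filter (fun q => ¬ q ≤ p.asIdeal)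
  refine ⟨hV.fromSpec '' (⋂ q ∈ bad, (PrimeSpectrum.zeroLocus (q : Set Γ(X, V)))ᶜ),
    IsOpen.mem_nhds (hV.fromSpec.isOpenEmbedding.isOpenMap _ (isOpen_biInter_finset fun q _ =>
      (PrimeSpectrum.isClosed_zeroLocus _).isOpen_compl)) ⟨p, ?_, hp⟩, ?_⟩
  · simp only [Set.mem_iInter]
    exact fun q hq h => (Finset.mem_filter.1 hq).2 h
  · rintro _ ⟨y, hy, rfl⟩
    obtain ⟨q, hq, hqy⟩ := Ideal.exists_minimalPrimes_le (I := (⊥ : Ideal Γ(X, V))) (J := y.asIdeal) bot_le
    have hqp : q ≤ p.asIdeal := by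
      by_contra h
      exact Set.mem_iInter₂.1 hy q (Finset.mem_filter.2 ⟨(Set.Finite.mem_toFinset _).2 hq, h⟩) hqy
    have hqprime : q.IsPrime := hq.1.1
    refine ⟨hV.fromSpec (⟨q, hqprime⟩ : PrimeSpectrum Γ(X, V)), ?_, ?_⟩
    · exact ((PrimeSpectrum.le_iff_specializes ⟨q, hqprime⟩ y).1 hqy).map hV.fromSpec.continuous
    · rw [← hp]
      exact ((PrimeSpectrum.le_iff_specializes ⟨q, hqprime⟩ p).1 hqp).map hV.fromSpec.continuous

/-- Connected components of complex points are those of the scheme. -/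
theorem connectedComponentsMap_bijective :
    Function.Bijective (An.Pts.continuous_pt (X := X)).connectedComponentsMap := by
  constructor
  · rintro ⟨a⟩ ⟨b⟩ hab
    change ConnectedComponents.mk a.pt = ConnectedComponents.mk b.pt at hab
    apply ConnectedComponents.coe_eq_coe.2
    let W : Set ↥X := {y | Pts.pt ⁻¹' closure {y} ⊆ connectedComponent a}
    have hsub : ∀ y c, c ∈ Pts.pt ⁻¹' closure ({y} : Set ↥X) → c ∈ connectedComponent a → y ∈ W := fun y c hc hca => by
      change _ ⊆ connectedComponent a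
      rw [connectedComponent_eq hca]
      exact (isPreconnected_pts_closure y).subset_connectedComponent hc
    have hiff : ∀ η y : ↥X, η ⤳ y → (η ∈ W ↔ y ∈ W) := fun η y h => by
      have hle : closure ({y} : Set ↥X) ⊆ closure {η} := specializes_iff_closure_subset.1 h
      refine ⟨fun hη => (Set.preimage_mono hle).trans hη, fun hy => ?_⟩
      obtain ⟨c, hc⟩ := exists_pts_of_isLocallyClosed (closure {y}) isClosed_closure.isLocallyClosed ⟨y, subset_closure rfl⟩
      exact hsub η c (hle hc) (hy hc)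
    have hloc : ∀ x, ∀ᶠ y in 𝓝 x, (y ∈ W ↔ x ∈ W) := fun x => by
      obtain ⟨N, hN, hNη⟩ := exists_nhds_generization x
      filter_upwards [hN] with y hy
      obtain ⟨η, h1, h2⟩ := hNη y hy
      rw [← hiff η y h1, hiff η x h2]
    have hW : IsClopen W := by
      constructor
      · rw [← isOpen_compl_iff, isOpen_iff_eventually]
        exact fun x hx => (hloc x).mono fun y hy hyW => hx (hy.1 hyW)
      · rw [isOpen_iff_eventually]
        exact fun x hx => (hloc x).mono fun y hy => hy.2 hx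
    have haW : a.pt ∈ W := hsub a.pt a (subset_closure rfl) mem_connectedComponent
    have hbC : b.pt ∈ connectedComponent a.pt := by
      rw [ConnectedComponents.coe_eq_coe.1 hab]; exact mem_connectedComponent
    have hbW : b.pt ∈ W := hW.connectedComponent_subset haW hbC
    exact connectedComponent_eq (hbW (show b.pt ∈ closure {b.pt} from subset_closure rfl))
  · rintro ⟨x⟩
    obtain ⟨c, hc⟩ := exists_pts_of_isLocallyClosed (connectedComponent x)
      isClosed_connectedComponent.isLocallyClosed ⟨x, mem_connectedComponent⟩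
    exact ⟨ConnectedComponents.mk c, ConnectedComponents.coe_eq_coe.2 (connectedComponent_eq hc).symm⟩

end Groth.Agent.AnBasic
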