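import Mathlib

/-!
# Left Kan extension along a flat functor between essentially small sites is left exact
-/

set_option autoImplicit false
set_option backward.defeqAttrib.useBackward true
set_option backward.isDefEq.respectTransparency false

universe u

open CategoryTheory CategoryTheory.Limits Opposite

namespace Groth.Agent.AnBasic

variable {C D : Type (u + 1)} [Category.{u} C] [Category.{u} D]

/-- Filtered colimits of abelian groups over a locally smaller index category are exact. -/
theorem colim_preservesFiniteLimits (J : Type (u + 1)) [Category.{u} J] [IsFiltered J]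
    [HasColimitsOfShape J AddCommGrpCat.{u + 1}] :
    PreservesFiniteLimits (colim : (J ⥤ AddCommGrpCat.{u + 1}) ⥤ AddCommGrpCat.{u + 1}) := by
  let e : ULiftHom.{u + 1} J ≌ J := ULiftHom.equiv.symm
  haveI : IsFiltered (ULiftHom.{u + 1} J) := IsFiltered.of_equivalence e.symm
  haveI : PreservesFiniteLimits (colim : (ULiftHom.{u + 1} J ⥤ AddCommGrpCat.{u + 1}) ⥤ AddCommGrpCat.{u + 1}) :=
    inferInstance
  haveI : PreservesFiniteLimits ((Functor.whiskeringLeft _ _ AddCommGrpCat.{u + 1}).obj e.functor) := inferInstance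
  haveI := comp_preservesFiniteLimits ((Functor.whiskeringLeft _ _ AddCommGrpCat.{u + 1}).obj e.functor)
    (colim : (ULiftHom.{u + 1} J ⥤ AddCommGrpCat.{u + 1}) ⥤ AddCommGrpCat.{u + 1})
  exact preservesFiniteLimits_of_natIso (Functor.Final.colimIso e.functor)

theorem lan_preservesFiniteLimits (F : C ⥤ D) [RepresentablyFlat F] :
    PreservesFiniteLimits (F.op.lan : (Cᵒᵖ ⥤ AddCommGrpCat.{u + 1}) ⥤ Dᵒᵖ ⥤ AddCommGrpCat.{u + 1}) := by
  constructor
  intro J _ _
  apply preservesLimitsOfShape_of_evaluation (F.op.lan : (Cᵒᵖ ⥤ AddCommGrpCat.{u + 1}) ⥤ Dᵒᵖ ⥤ AddCommGrpCat.{u + 1}) J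
  intro K
  haveI : IsFiltered (CostructuredArrow F.op K) :=
    IsFiltered.of_equivalence (structuredArrowOpEquivalence F (unop K))
  haveI := colim_preservesFiniteLimits.{u} (CostructuredArrow F.op K)
  haveI := comp_preservesFiniteLimits ((Functor.whiskeringLeft _ _ AddCommGrpCat.{u + 1}).obj (CostructuredArrow.proj F.op K))
    (colim : (CostructuredArrow F.op K ⥤ AddCommGrpCat.{u + 1}) ⥤ AddCommGrpCat.{u + 1})
  refine preservesLimitsOfShape_of_natIso ?_ (F := (Functor.whiskeringLeft _ _ AddCommGrpCat.{u + 1}).obj (CostructuredArrow.proj F.op K) ⋙ colim)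
  refine Iso.symm (NatIso.ofComponents (fun G =>
    IsColimit.coconePointUniqueUpToIso
    (Functor.isPointwiseLeftKanExtensionLeftKanExtensionUnit F.op G K)
    (colimit.isColimit _)) (fun {G₁ G₂} φ => by
      apply (Functor.isPointwiseLeftKanExtensionLeftKanExtensionUnit F.op G₁ K).hom_ext
      intro T
      have h₁ := fun (G : Cᵒᵖ ⥤ AddCommGrpCat.{u + 1}) => IsColimit.comp_coconePointUniqueUpToIso_hom
        (Functor.isPointwiseLeftKanExtensionLeftKanExtensionUnit F.op G K) (colimit.isColimit _) T
      have h₂ := congr_app (F.op.lanUnit.naturality φ) T.left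
      dsimp at h₁ h₂ ⊢
      simp only [Category.assoc] at h₁ ⊢
      simp only [Functor.lan, Functor.lanUnit] at h₂ ⊢
      rw [reassoc_of% h₁, NatTrans.naturality_assoc, ← reassoc_of% h₂, h₁,
        ι_colimMap, Functor.whiskerLeft_app]
      rfl))

/-- Pullback of abelian sheaves along a flat continuous functor is left exact. -/
theorem preservesFiniteLimits_sheafPullback (J : GrothendieckTopology C) (K : GrothendieckTopology D)
    (v : C ⥤ D) [RepresentablyFlat v] [v.IsContinuous J K]
    [HasSheafify J AddCommGrpCat.{u + 1}] [HasSheafify K AddCommGrpCat.{u + 1}] :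
    PreservesFiniteLimits (v.sheafPullback AddCommGrpCat.{u + 1} J K) := by
  haveI := lan_preservesFiniteLimits v
  exact Functor.sheafPullbackConstruction.preservesFiniteLimits _ _ _ _

end Groth.Agent.AnBasic
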