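import Groth.Agent.AnBasic.Etale
import Groth.Agent.AnBasic.LanFlat
import Groth.Prelude.Def_AnEps

/-!
# The comparison functor of sites
-/

set_option autoImplicit false
set_option backward.isDefEq.respectTransparency false
set_option backward.isDefEq.respectTransparency.types false

open CategoryTheory CategoryTheory.Limits AlgebraicGeometry Topology TopologicalSpace Opposite Filter
open An

namespace Groth.Agent.AnBasic

variable (X : Scheme.{0}) [X.Over An.SC] [LocallyOfFiniteType (X ↘ An.SC)] [Fact An.EtaleLH]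

theorem eps_preservesPullback {U V W : X.Etale} (f : U ⟶ W) (g : V ⟶ W) :
    PreservesLimit (cospan f g) (An.eps X) := by
  have h := (IsPullback.of_hasPullback f g).map (Scheme.Etale.forget X ⋙ CategoryTheory.Over.forget X)
  let p : pullback f g ⟶ U := pullback.fst f g
  let q : pullback f g ⟶ V := pullback.snd f g
  change IsPullback p.left q.left f.left g.left at h
  have hpre : ∀ (Z : Cl (Pts X)) (a : Z ⟶ (An.eps X).obj U) (b : Z ⟶ (An.eps X).obj V)
      (_ : a ≫ (An.eps X).map f = b ≫ (An.eps X).map g),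
      ∃! l : Z ⟶ (An.eps X).obj (pullback f g), l ≫ (An.eps X).map p = a ∧ l ≫ (An.eps X).map q = b := by
    intro Z a b hab
    have hpt : ∀ z, (a.toFun z).1 ≫ f.left = (b.toFun z).1 ≫ g.left := fun z =>
      congrArg Subtype.val (congrFun (congrArg Cl.Hom.toFun hab) z)
    let l : Z.E → Pts (pullback f g).left := fun z => ⟨h.lift _ _ (hpt z), by
      change h.lift _ _ (hpt z) ≫ ((pullback f g).left ↘ SC) = 𝟙 SC
      rw [← comp_over p.left SC, ← Category.assoc]
      erw [h.lift_fst]
      exact (a.toFun z).2⟩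
    have hl1 : ∀ z, Pts.map p.left (l z) = a.toFun z := fun z => Subtype.ext (h.lift_fst _ _ _)
    have hl2 : ∀ z, Pts.map q.left (l z) = b.toFun z := fun z => Subtype.ext (h.lift_snd _ _ _)
    haveI : h.isoPullback.hom.IsOver An.SC := ⟨by
      change h.isoPullback.hom ≫ pullback.fst f.left g.left ≫ (U.left ↘ SC) = _
      rw [← Category.assoc, h.isoPullback_hom_fst]
      exact comp_over p.left SC⟩
    haveI : h.isoPullback.inv.IsOver An.SC := ⟨by
      rw [Iso.inv_comp_eq]
      exact (comp_over h.isoPullback.hom SC).symm⟩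
    have hlc : Continuous l := by
      have hind : IsInducing (Pts.map (X := (pullback f g).left) h.isoPullback.hom) :=
        IsInducing.of_comp (Pts.continuous_map _) (Pts.continuous_map h.isoPullback.inv) (by
          have : Pts.map h.isoPullback.inv ∘ Pts.map h.isoPullback.hom = id :=
            funext fun c => Subtype.ext (by simp)
          rw [this]; exact IsInducing.id)
      rw [hind.continuous_iff, (isInducing_pullback f.left g.left).continuous_iff]
      have e1 : ∀ z, Pts.map (pullback.fst f.left g.left) (Pts.map h.isoPullback.hom (l z)) = a.toFun z := fun z => by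
        rw [← hl1 z]; exact Subtype.ext (by simp)
      have e2 : ∀ z, Pts.map (pullback.snd f.left g.left) (Pts.map h.isoPullback.hom (l z)) = b.toFun z := fun z => by
        rw [← hl2 z]; exact Subtype.ext (by simp)
      exact (a.continuous.prodMk b.continuous).congr fun z => (Prod.ext (e1 z) (e2 z)).symm
    have hover : ∀ z, ((An.eps X).obj (pullback f g)).p (l z) = Z.p z := fun z => by
      rw [← a.over z, ← hl1 z]
      exact (((An.eps X).map p).over (l z)).symm
    refine ⟨⟨l, hlc, hover⟩, ⟨Cl.hom_ext (funext hl1), Cl.hom_ext (funext hl2)⟩, ?_⟩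
    rintro m ⟨hm1, hm2⟩
    refine Cl.hom_ext (funext fun z => Subtype.ext (h.hom_ext ?_ ?_))
    · rw [h.lift_fst]
      exact congrArg Subtype.val (congrFun (congrArg Cl.Hom.toFun hm1) z)
    · rw [h.lift_snd]
      exact congrArg Subtype.val (congrFun (congrArg Cl.Hom.toFun hm2) z)
  refine preservesLimit_of_preserves_limit_cone (IsPullback.of_hasPullback f g).isLimit
    ((isLimitMapConePullbackConeEquiv (An.eps X) (IsPullback.of_hasPullback f g).w).symm ?_)
  refine PullbackCone.IsLimit.mk _ (fun s => (hpre s.pt s.fst s.snd s.condition).choose)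
    (fun s => (hpre s.pt s.fst s.snd s.condition).choose_spec.1.1)
    (fun s => (hpre s.pt s.fst s.snd s.condition).choose_spec.1.2)
    (fun s m h1 h2 => (hpre s.pt s.fst s.snd s.condition).choose_spec.2 m ⟨h1, h2⟩)

theorem eps_preservesFiniteLimits : PreservesFiniteLimits (An.eps X) := by
  haveI : PreservesLimit (Functor.empty.{0} X.Etale) (An.eps X) :=
    preservesLimit_of_preserves_limit_cone (EtCore.topIsTerminal X)
      ((isLimitMapConeEmptyConeEquiv _ _).symm ((Cl.selfIsTerminal (Pts X)).ofIso (An.epsTopIso X).symm))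
  haveI : PreservesLimitsOfShape (Discrete PEmpty.{1}) (An.eps X) :=
    preservesLimitsOfShape_pempty_of_preservesTerminal _
  haveI : PreservesLimitsOfShape WalkingCospan (An.eps X) :=
    ⟨fun {K} => by
      haveI := eps_preservesPullback X (K.map WalkingCospan.Hom.inl) (K.map WalkingCospan.Hom.inr)
      exact preservesLimit_of_iso_diagram _ (diagramIsoCospan K).symm⟩
  exact preservesFiniteLimits_of_preservesTerminal_and_pullbacks _

theorem eps_flat : RepresentablyFlat (An.eps X) :=
  haveI := eps_preservesFiniteLimits X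
  flat_of_preservesFiniteLimits _

theorem eps_coverPreserving : CoverPreserving X.smallEtaleTopology (Cl.topology (Pts X)) (An.eps X) := by
  refine ⟨fun {U} S hS => fun a => ?_⟩
  let ι := Σ Y : X.Etale, {f : Y ⟶ U // S f}
  have hS' : Sieve.ofArrows (fun i : ι => i.1) (fun i : ι => i.2.1) ∈ X.smallEtaleTopology U := by
    refine GrothendieckTopology.superset_covering _ ?_ hS
    intro Y f hf
    exact Sieve.ofArrows_mk (fun i : ι => i.1) (fun i : ι => i.2.1) ⟨Y, f, hf⟩
  have hcov := (Scheme.ofArrows_mem_smallEtaleTopology_iff _).1 hS'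
  obtain ⟨⟨Y, g, hg⟩, y, hy⟩ := Set.mem_iUnion.1 (hcov.ge (Set.mem_univ a.pt))
  haveI : LocallyOfFiniteType (Y.left ↘ SC) :=
    haveI : Etale (Y.left ↘ X) := Y.prop
    inferInstanceAs (LocallyOfFiniteType ((Y.left ↘ X) ≫ (X ↘ SC)))
  haveI : LocallyOfFiniteType (U.left ↘ SC) :=
    haveI : Etale (U.left ↘ X) := U.prop
    inferInstanceAs (LocallyOfFiniteType ((U.left ↘ X) ≫ (X ↘ SC)))
  obtain ⟨d, rfl⟩ : ∃ d, Pts.map (X := Y.left) (Y := U.left) g.left d = a := by
    have : a ∈ Pts.pt ⁻¹' Set.range g.left := ⟨y, hy⟩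
    rw [← range_map (X := Y.left) (Y := U.left) g.left] at this
    exact this
  haveI : Etale g.left := by
    haveI : Etale (U.left ↘ X) := U.prop
    haveI : Etale (g.left ≫ (U.left ↘ X)) := by
      rw [show g.left ≫ (U.left ↘ X) = (Y.left ↘ X) from Over.w g.hom]; exact Y.prop
    exact Etale.of_comp _ (U.left ↘ X)
  have hlh : IsLocalHomeomorph (Pts.map (X := Y.left) (Y := U.left) g.left) := isLocalHomeomorph_map g.left
  obtain ⟨O, hO, hOe⟩ := isLocalHomeomorph_iff_isOpenEmbedding_restrict.1 hlh d
  obtain ⟨O', hO'O, hO', hdO'⟩ := mem_nhds_iff.1 hO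
  refine ⟨Cl.restrictOpen ((An.eps X).obj Y) O' hO', Cl.restrictOpenι ((An.eps X).obj Y) O' hO' ≫ (An.eps X).map g, ?_, ?_, ?_⟩
  · exact (Sieve.functorPushforward _ S).downward_closed (Sieve.image_mem_functorPushforward _ S hg) _
  · exact hOe.comp (IsOpenEmbedding.inclusion hO'O (hO'.preimage continuous_subtype_val))
  · exact ⟨(⟨d, hdO'⟩ : O'), rfl⟩

end Groth.Agent.AnBasic
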