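import Groth.Agent.AnBasic.Sep

/-!
# Étale morphisms are local homeomorphisms on complex points
-/

set_option autoImplicit false

open CategoryTheory AlgebraicGeometry Topology TopologicalSpace Filter
open An

namespace Groth.Agent.AnBasic

variable {X Y : Scheme.{0}} [X.Over An.SC] [Y.Over An.SC]

/-- Value of a polynomial with coefficients sections at a point and a number. -/
noncomputable def evP (W : Y.Opens) (p : Polynomial Γ(Y, W)) (c : Pts Y) (t : ℂ) : ℂ :=
  ∑ i ∈ Finset.range (p.natDegree + 1), evT W (p.coeff i) c * t ^ i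

lemma evP_eq {W : Y.Opens} (p : Polynomial Γ(Y, W)) {c : Pts Y} (h : c.pt ∈ W) (t : ℂ) :
    evP W p c t = (p.map (evHom c W h)).eval t := by
  rw [evP, Polynomial.eval_map, Polynomial.eval₂_eq_sum_range]
  exact Finset.sum_congr rfl fun i _ => by rw [evT_eq_evHom h]

lemma tendsto_evP {ι : Type*} {l : Filter ι} {W : Y.Opens} (p : Polynomial Γ(Y, W)) {cn : ι → Pts Y}
    {c : Pts Y} (hc : c.pt ∈ W) (hcn : Tendsto cn l (𝓝 c)) {tn : ι → ℂ} {t : ℂ} (htn : Tendsto tn l (𝓝 t)) :
    Tendsto (fun i => evP W p (cn i) (tn i)) l (𝓝 (evP W p c t)) :=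
  tendsto_finsetSum _ fun _ _ => ((tendsto_evT _ hc).comp hcn).mul (htn.pow _)

variable (g : X ⟶ Y) [g.IsOver An.SC] {W : Y.Opens} {U : X.Opens} (hW : IsAffineOpen W) (hU : IsAffineOpen U)
  (e : U ≤ g ⁻¹ᵁ W)

include e in
lemma mem_of_mem {c : Pts X} (h : c.pt ∈ U) : (Pts.map g c).pt ∈ W := by
  rw [Pts.pt_map]; exact e h

lemma evHom_map {c : Pts X} (h : c.pt ∈ U) :
    evHom (Pts.map g c) W (mem_of_mem g e h) = (evHom c U h).comp (g.appLE W U e).hom := by
  refine RingHom.ext fun b => ?_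
  rw [RingHom.comp_apply, evHom_apply, evHom_apply, ← evT_eq (mem_of_mem g e h), ← evT_eq h]
  exact evT_map g e h b

lemma strV_comp : strV hW ≫ g.appLE W U e = strV hU := by
  refine Spec.map_injective ?_
  rw [Spec.map_comp, SpecMap_strV, SpecMap_strV, ← Category.assoc,
    IsAffineOpen.SpecMap_appLE_fromSpec g hW hU e, Category.assoc, comp_over g]

include hU in
lemma evHom_injective {c d : Pts X} (hc : c.pt ∈ U) (hd : d.pt ∈ U) (h : evHom c U hc = evHom d U hd) :
    c = d := by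
  obtain ⟨φ, hφ, rfl⟩ := exists_mkPt hU c hc
  obtain ⟨ψ, hψ, rfl⟩ := exists_mkPt hU d hd
  have : φ = ψ := CommRingCat.hom_ext (RingHom.ext fun b => by
    rw [← ev_mkPt hU φ hφ hc, ← ev_mkPt hU ψ hψ hd]
    exact DFunLike.congr_fun h b)
  subst this; rfl

include hW hU in
/-- An étale standard chart is a local homeomorphism at each of its complex points. -/
theorem local_homeo_of_standard (he : letI := (g.appLE W U e).hom.toAlgebra; Algebra.IsStandardEtale Γ(Y, W) Γ(X, U))
    (a : Pts X) (ha : a.pt ∈ U) :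
    (∃ N ∈ 𝓝 a, Set.InjOn (Pts.map g) N) ∧ 𝓝 (Pts.map g a) ≤ Filter.map (Pts.map g) (𝓝 a) := by
  classical
  letI := (g.appLE W U e).hom.toAlgebra
  haveI := he
  obtain ⟨P⟩ := Algebra.IsStandardEtale.nonempty_standardEtalePresentation (R := Γ(Y, W)) (S := Γ(X, U))
  have haev : ∀ (c : Pts X) (h : c.pt ∈ U) (p : Polynomial Γ(Y, W)),
      evHom c U h (Polynomial.aeval P.x p) = evP W p (Pts.map g c) (evT U P.x c) := by
    intro c h p
    rw [evP_eq p (mem_of_mem g e h), Polynomial.aeval_def, Polynomial.hom_eval₂, evHom_map g e h,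
      evT_eq_evHom h, Polynomial.eval_map, RingHom.algebraMap_toAlgebra]
  let b := Pts.map g a
  have hb : b.pt ∈ W := mem_of_mem g e ha
  let t₀ := evT U P.x a
  have hf0 : evP W P.f b t₀ = 0 := by rw [← haev a ha, P.hasMap.1, map_zero]
  have hg0 : evP W P.g b t₀ ≠ 0 := by rw [← haev a ha]; exact (P.hasMap.2.map _).ne_zero
  have hd0 : evP W (Polynomial.derivative P.f) b t₀ ≠ 0 := by
    rw [← haev a ha]; exact (P.hasMap.isUnit_derivative_f.map _).ne_zero
  -- values of all sections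
  have hrep : ∀ s : Γ(X, U), ∃ p : Polynomial Γ(Y, W), ∃ n : ℕ, ∀ (c : Pts X) (h : c.pt ∈ U),
      evT U s c = evP W p (Pts.map g c) (evT U P.x c) / evP W P.g (Pts.map g c) (evT U P.x c) ^ n := by
    intro s
    obtain ⟨p, n, hp⟩ := P.exists_mul_aeval_x_g_pow_eq_aeval_x s
    refine ⟨p, n, fun c h => ?_⟩
    rw [← haev c h, ← haev c h, evT_eq_evHom h, eq_div_iff (pow_ne_zero _ (P.hasMap.2.map _).ne_zero),
      ← map_pow, ← map_mul, hp]
  constructor
  · -- local injectivity
    let q : Pts Y → ℂ → ℂ → ℂ := fun c s t => ∑ i ∈ Finset.range (P.f.natDegree + 1),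
      evT W (P.f.coeff i) c * ∑ j ∈ Finset.range i, s ^ j * t ^ (i - 1 - j)
    have hq : ∀ c s t, q c s t * (s - t) = evP W P.f c s - evP W P.f c t := fun c s t => by
      simp only [q, evP, Finset.sum_mul, ← Finset.sum_sub_distrib]
      refine Finset.sum_congr rfl fun i _ => ?_
      rw [mul_assoc, ← mul_sub, geom_sum₂_mul]
    have hqd : q b t₀ t₀ = evP W (Polynomial.derivative P.f) b t₀ := by
      rw [evP_eq _ hb, ← Polynomial.derivative_map, Polynomial.derivative_eval]
      rw [Polynomial.sum_over_range' _ (by simp) (P.f.natDegree + 1)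
        (Nat.lt_succ_of_le Polynomial.natDegree_map_le)]
      refine Finset.sum_congr rfl fun i _ => ?_
      rw [evT_eq_evHom hb, Polynomial.coeff_map, mul_assoc]
      congr 1
      rw [Finset.sum_congr rfl (g := fun _ => t₀ ^ (i - 1)) (fun j hj => by
        rw [← pow_add]; congr 1; have := Finset.mem_range.1 hj; omega)]
      simp
    have ht : Tendsto (evT U P.x) (𝓝 a) (𝓝 t₀) := tendsto_evT _ ha
    have hlim : Tendsto (fun z : Pts X × Pts X => q (Pts.map g z.1) (evT U P.x z.1) (evT U P.x z.2))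
        (𝓝 (a, a)) (𝓝 (q b t₀ t₀)) := by
      refine tendsto_finsetSum _ fun i _ => Tendsto.mul ((tendsto_evT _ hb).comp
        (((Pts.continuous_map g).tendsto a).comp (continuous_fst.tendsto (a, a)))) (tendsto_finsetSum _ fun j _ => ?_)
      exact ((ht.comp (continuous_fst.tendsto (a, a))).pow _).mul ((ht.comp (continuous_snd.tendsto (a, a))).pow _)
    have hev := hlim.eventually (isOpen_ne.mem_nhds (hqd ▸ hd0 : q b t₀ t₀ ≠ 0))
    rw [nhds_prod_eq] at hev
    obtain ⟨N, hN, hNq⟩ := (eventually_prod_self_iff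
      (r := fun c d => q (Pts.map g c) (evT U P.x c) (evT U P.x d) ≠ 0)).1 hev
    refine ⟨N ∩ Pts.pt ⁻¹' U, inter_mem hN (eventually_mem ha), fun c hc d hd he' => evHom_injective hU hc.2 hd.2 ?_⟩
    have hx : evT U P.x c = evT U P.x d := by
      by_contra hne
      have h0 := hq (Pts.map g c) (evT U P.x c) (evT U P.x d)
      rw [← haev c hc.2, P.hasMap.1, map_zero] at h0
      rw [he', ← haev d hd.2, P.hasMap.1, map_zero, sub_zero] at h0
      exact hNq c hc.1 d hd.1 (he' ▸ (mul_eq_zero.1 h0).resolve_right (sub_ne_zero.2 hne))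
    refine RingHom.ext fun s => ?_
    obtain ⟨p, n, hp⟩ := hrep s
    rw [← evT_eq_evHom hc.2, ← evT_eq_evHom hd.2, hp c hc.2, hp d hd.2, hx, he']
  · -- openness
    have hnear : ∀ (c : Pts Y), c.pt ∈ W → ∃ t : ℂ, evP W P.f c t = 0 ∧
        ‖t - t₀‖ ^ P.f.natDegree ≤ ‖evP W P.f c t₀‖ := by
      intro c hc
      have hd : 0 < P.f.natDegree := by
        by_contra hd
        push Not at hd
        have h1 := P.monic_f.natDegree_eq_zero.1 (Nat.le_zero.1 hd)
        rw [evP_eq _ hb, h1] at hf0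
        simp at hf0
      let R := P.f.map (evHom c W hc)
      have hR : R.Monic := P.monic_f.map _
      have hspl := IsAlgClosed.splits R
      have hdeg : Multiset.card R.roots = P.f.natDegree := by
        rw [← Polynomial.Splits.natDegree_eq_card_roots hspl, P.monic_f.natDegree_map]
      obtain ⟨t₁, ht₁⟩ := Multiset.card_pos_iff_exists_mem.1 (hdeg ▸ hd : 0 < Multiset.card R.roots)
      obtain ⟨t, ht, hmin⟩ := R.roots.toFinset.exists_min_image (fun z => ‖t₀ - z‖) ⟨t₁, Multiset.mem_toFinset.2 ht₁⟩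
      refine ⟨t, by rw [evP_eq _ hc]; exact Polynomial.isRoot_of_mem_roots (Multiset.mem_toFinset.1 ht), ?_⟩
      rw [evP_eq _ hc, hspl.eval_eq_prod_roots_of_monic hR, ← hdeg, norm_sub_rev]
      calc ‖t₀ - t‖ ^ Multiset.card R.roots = (R.roots.map fun _ => ‖t₀ - t‖).prod := by simp
        _ ≤ (R.roots.map fun z => ‖t₀ - z‖).prod :=
          Multiset.prod_map_le_prod_map₀ _ _ (fun _ _ => norm_nonneg _)
            fun z hz => hmin z (Multiset.mem_toFinset.2 hz)
        _ = ‖(R.roots.map (t₀ - ·)).prod‖ := by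
          rw [show ‖(R.roots.map (t₀ - ·)).prod‖ = (normHom : ℂ →*₀ ℝ) _ from rfl, map_multiset_prod, Multiset.map_map]
          rfl
    choose! tc htc htn using hnear
    have hbW := eventually_mem (V := W) hb
    have hlimt : Tendsto tc (𝓝 b) (𝓝 t₀) := by
      have h0 : Tendsto (fun c => ‖evP W P.f c t₀‖) (𝓝 b) (𝓝 0) := by
        have := (tendsto_evP P.f hb tendsto_id (tendsto_const_nhds (x := t₀))).norm
        rwa [hf0, norm_zero] at this
      rw [Metric.tendsto_nhds]
      intro ε hε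
      filter_upwards [h0.eventually (gt_mem_nhds (pow_pos hε P.f.natDegree)), hbW] with c hc hcW
      rw [dist_eq_norm]
      exact lt_of_pow_lt_pow_left₀ _ hε.le ((htn c hcW).trans_lt hc)
    have hg' : ∀ᶠ c in 𝓝 b, evP W P.g c (tc c) ≠ 0 :=
      (tendsto_evP P.g hb tendsto_id hlimt).eventually (isOpen_ne.mem_nhds hg0)
    have hlift : ∀ c : Pts Y, c.pt ∈ W → evP W P.g c (tc c) ≠ 0 →
        ∃ d : Pts X, d.pt ∈ U ∧ Pts.map g d = c ∧ evT U P.x d = tc c := by
      intro c hc hgc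
      letI := (evHom c W hc).toAlgebra
      have hmap : P.P.HasMap (S := ℂ) (tc c) := by
        constructor
        · rw [Polynomial.aeval_def, RingHom.algebraMap_toAlgebra, ← Polynomial.eval_map, ← evP_eq _ hc]
          exact htc c hc
        · rw [Polynomial.aeval_def, RingHom.algebraMap_toAlgebra, ← Polynomial.eval_map, ← evP_eq _ hc]
          exact isUnit_iff_ne_zero.2 hgc
      let χ : Γ(X, U) →ₐ[Γ(Y, W)] ℂ := (P.P.lift (tc c) hmap).comp P.equivRing.toAlgHom
      have hχ : strV hU ≫ CommRingCat.ofHom χ.toRingHom = 𝟙 _ := by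
        rw [← strV_comp g hW hU e]
        refine CommRingCat.hom_ext (RingHom.ext fun r => ?_)
        exact (χ.commutes _).trans (DFunLike.congr_fun (evHom_comp_strV hW c hc) r)
      refine ⟨mkPt hU _ hχ, pt_mkPt_mem hU _ hχ, evHom_injective hW (mem_of_mem g e (pt_mkPt_mem hU _ hχ)) hc ?_, ?_⟩
      · rw [evHom_map g e (pt_mkPt_mem hU _ hχ)]
        refine RingHom.ext fun r => ?_
        rw [RingHom.comp_apply, evHom_apply, ev_mkPt]
        exact χ.commutes r
      · rw [evT_eq (pt_mkPt_mem hU _ hχ), ev_mkPt]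
        change χ P.x = tc c
        simp [χ]
    haveI : Nonempty (Pts X) := ⟨a⟩
    choose! σ hσU hσg hσx using hlift
    have hσ : Tendsto σ (𝓝 b) (𝓝 a) := by
      refine (tendsto_iff_evT hU ha).2 ⟨?_, fun s => ?_⟩
      · filter_upwards [hbW, hg'] with c h1 h2 using hσU c h1 h2
      · obtain ⟨p, n, hp⟩ := hrep s
        rw [hp a ha]
        refine (((tendsto_evP p hb tendsto_id hlimt).div ((tendsto_evP P.g hb tendsto_id hlimt).pow n)
          (pow_ne_zero _ hg0))).congr' ?_
        filter_upwards [hbW, hg'] with c h1 h2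
        rw [hp _ (hσU c h1 h2), hσg c h1 h2, hσx c h1 h2]
        rfl
    have hid : (Pts.map g ∘ σ) =ᶠ[𝓝 b] id := by
      filter_upwards [hbW, hg'] with c h1 h2 using hσg c h1 h2
    calc 𝓝 b = Filter.map (Pts.map g ∘ σ) (𝓝 b) := by rw [Filter.map_congr hid, Filter.map_id]
      _ = Filter.map (Pts.map g) (Filter.map σ (𝓝 b)) := Filter.map_map.symm
      _ ≤ Filter.map (Pts.map g) (𝓝 a) := Filter.map_mono hσ

/-- Étale morphisms induce local homeomorphisms. -/
theorem isLocalHomeomorph_map (f : X ⟶ Y) [f.IsOver An.SC] [Etale f] : IsLocalHomeomorph (Pts.map f) := by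
  have key : ∀ a : Pts X, (∃ N ∈ 𝓝 a, Set.InjOn (Pts.map f) N) ∧
      𝓝 (Pts.map f a) ≤ Filter.map (Pts.map f) (𝓝 a) := by
    intro a
    obtain ⟨_, ⟨W, hW, rfl⟩, hbW, -⟩ :=
      Y.isBasis_affineOpens.exists_subset_of_mem_open (Set.mem_univ (f a.pt)) isOpen_univ
    obtain ⟨_, ⟨U, hU, rfl⟩, haU, hUW : U ≤ f ⁻¹ᵁ W⟩ :=
      X.isBasis_affineOpens.exists_subset_of_mem_open (show a.pt ∈ f ⁻¹ᵁ W from hbW) (f ⁻¹ᵁ W).2
    letI := (f.appLE W U hUW).hom.toAlgebra
    haveI : Algebra.Etale Γ(Y, W) Γ(X, U) := f.etale_appLE hW hU hUW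
    let Q := (IsAffineOpen.primeIdealOf hU ⟨a.pt, haU⟩).asIdeal
    haveI : Algebra.IsEtaleAt Γ(Y, W) Q := Algebra.FormallyEtale.comp Γ(Y, W) Γ(X, U) _
    obtain ⟨s, hs, hst⟩ := Algebra.IsEtaleAt.exists_isStandardEtale (R := Γ(Y, W)) Q
    have has : a.pt ∈ X.basicOpen s := by
      have hmem : IsAffineOpen.primeIdealOf hU ⟨a.pt, haU⟩ ∈ (IsAffineOpen.fromSpec hU) ⁻¹ᵁ X.basicOpen s := by
        rw [IsAffineOpen.fromSpec_preimage_basicOpen hU]
        exact hs
      have he : (IsAffineOpen.fromSpec hU) (IsAffineOpen.primeIdealOf hU ⟨a.pt, haU⟩) = a.pt :=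
        IsAffineOpen.fromSpec_primeIdealOf hU ⟨a.pt, haU⟩
      exact he ▸ hmem
    have e' : X.basicOpen s ≤ f ⁻¹ᵁ W := (X.basicOpen_le s).trans hUW
    refine local_homeo_of_standard f hW (IsAffineOpen.basicOpen hU s) e' ?_ a has
    letI := (f.appLE W (X.basicOpen s) e').hom.toAlgebra
    haveI := IsAffineOpen.isLocalization_basicOpen hU s
    haveI : IsScalarTower Γ(Y, W) Γ(X, U) Γ(X, X.basicOpen s) := IsScalarTower.of_algebraMap_eq' (by
      rw [RingHom.algebraMap_toAlgebra, RingHom.algebraMap_toAlgebra, RingHom.algebraMap_toAlgebra,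
        ← CommRingCat.hom_comp]
      congr 1
      exact (Scheme.Hom.appLE_map _ hUW _).symm)
    haveI := hst
    exact Algebra.IsStandardEtale.of_equiv
      ((IsLocalization.algEquiv (Submonoid.powers s) (Localization.Away s) Γ(X, X.basicOpen s)).restrictScalars Γ(Y, W))
  refine isLocalHomeomorph_iff_isOpenEmbedding_restrict.2 fun a => ?_
  obtain ⟨N, hN, hinj⟩ := (key a).1
  obtain ⟨O, hON, hO, haO⟩ := mem_nhds_iff.1 hN
  exact ⟨O, hO.mem_nhds haO, IsOpenEmbedding.of_continuous_injective_isOpenMap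
    ((Pts.continuous_map f).comp continuous_subtype_val) ((hinj.mono hON).injective)
    ((isOpenMap_iff_nhds_le.2 fun x => (key x).2).comp hO.isOpenEmbedding_subtypeVal.isOpenMap)⟩

end Groth.Agent.AnBasic
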