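import Mathlib

/-!
# Functions of polynomial growth, holomorphic on lines off a hypersurface, are polynomials
-/

set_option autoImplicit false

open Filter Topology

namespace Groth.Agent.AnBasic

/-- An entire function of polynomial growth is a polynomial. -/
theorem exists_polynomial_of_growth (N : ℕ) : ∀ {f : ℂ → ℂ}, Differentiable ℂ f → ∀ {C : ℝ}, 0 ≤ C →
    (∀ z, ‖f z‖ ≤ C * (1 + ‖z‖) ^ N) → ∃ p : Polynomial ℂ, p.natDegree ≤ N ∧ ∀ z, f z = p.eval z := by
  induction N with
  | zero =>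
    intro f hf C _ hb
    refine ⟨Polynomial.C (f 0), (Polynomial.natDegree_C _).le, fun z => ?_⟩
    rw [Polynomial.eval_C]
    refine hf.apply_eq_apply_of_bounded ((Metric.isBounded_closedBall (x := (0 : ℂ)) (r := C)).subset ?_) z 0
    rintro _ ⟨w, rfl⟩
    simpa using hb w
  | succ N ih =>
    intro f hf C hC hb
    let g := dslope f 0
    have hg : Differentiable ℂ g := differentiableOn_univ.1 ((Complex.differentiableOn_dslope univ_mem).2 hf.differentiableOn)
    obtain ⟨M, hM⟩ := (isCompact_closedBall (0 : ℂ) 1).exists_bound_of_continuousOn hg.continuous.continuousOn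
    have hM0 : 0 ≤ M := (norm_nonneg _).trans (hM 0 (by simp))
    have hgb : ∀ z, ‖g z‖ ≤ max M (2 * (C + ‖f 0‖)) * (1 + ‖z‖) ^ N := by
      intro z
      have h1 : 1 ≤ (1 + ‖z‖) ^ N := one_le_pow₀ (by simp)
      rcases le_total ‖z‖ 1 with hz | hz
      · exact (hM z (mem_closedBall_zero_iff.2 hz)).trans
          ((le_max_left _ _).trans (le_mul_of_one_le_right (hM0.trans (le_max_left _ _)) h1))
      · have hs : z * g z = f z - f 0 := by simpa [g] using sub_smul_dslope f 0 z
        have h2 : ‖z‖ * ‖g z‖ ≤ (C + ‖f 0‖) * (1 + ‖z‖) ^ (N + 1) := by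
          rw [← norm_mul, hs, add_mul]
          exact (norm_sub_le _ _).trans (add_le_add (hb z)
            (le_mul_of_one_le_right (norm_nonneg _) (one_le_pow₀ (by simp))))
        refine le_of_mul_le_mul_left (h2.trans ?_) (lt_of_lt_of_le one_pos hz)
        have h4 : (C + ‖f 0‖) * (1 + ‖z‖) ≤ ‖z‖ * max M (2 * (C + ‖f 0‖)) :=
          calc (C + ‖f 0‖) * (1 + ‖z‖) ≤ (C + ‖f 0‖) * (2 * ‖z‖) := mul_le_mul_of_nonneg_left (by linarith) (by positivity)
            _ = ‖z‖ * (2 * (C + ‖f 0‖)) := by ring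
            _ ≤ _ := mul_le_mul_of_nonneg_left (le_max_right _ _) (norm_nonneg _)
        calc (C + ‖f 0‖) * (1 + ‖z‖) ^ (N + 1) = (C + ‖f 0‖) * (1 + ‖z‖) * (1 + ‖z‖) ^ N := by ring
          _ ≤ ‖z‖ * max M (2 * (C + ‖f 0‖)) * (1 + ‖z‖) ^ N := mul_le_mul_of_nonneg_right h4 (by positivity)
          _ = ‖z‖ * (max M (2 * (C + ‖f 0‖)) * (1 + ‖z‖) ^ N) := by ring
    obtain ⟨q, hq, hqe⟩ := ih hg (hM0.trans (le_max_left _ _)) hgb
    refine ⟨Polynomial.C (f 0) + Polynomial.X * q, ?_, fun z => ?_⟩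
    · refine (Polynomial.natDegree_add_le _ _).trans (max_le (by simp) (Polynomial.natDegree_mul_le.trans ?_))
      rw [Polynomial.natDegree_X]; omega
    · have hs : z * g z = f z - f 0 := by simpa [g] using sub_smul_dslope f 0 z
      simp only [Polynomial.eval_add, Polynomial.eval_C, Polynomial.eval_mul, Polynomial.eval_X, ← hqe, hs]
      ring

/-- Polynomials have polynomial growth. -/
theorem exists_growth {m : ℕ} (P : MvPolynomial (Fin m) ℂ) :
    ∃ C : ℝ, ∃ N : ℕ, 0 ≤ C ∧ ∀ x : Fin m → ℂ, ‖MvPolynomial.eval x P‖ ≤ C * (1 + ‖x‖) ^ N := by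
  induction P using MvPolynomial.induction_on with
  | C a => exact ⟨‖a‖, 0, norm_nonneg _, fun x => by simp⟩
  | add p q hp hq =>
    obtain ⟨C, N, hC, hp⟩ := hp
    obtain ⟨C', N', hC', hq⟩ := hq
    refine ⟨C + C', max N N', add_nonneg hC hC', fun x => ?_⟩
    rw [map_add, add_mul]
    exact (norm_add_le _ _).trans (add_le_add
      ((hp x).trans (mul_le_mul_of_nonneg_left (pow_le_pow_right₀ (by simp) (le_max_left _ _)) hC))
      ((hq x).trans (mul_le_mul_of_nonneg_left (pow_le_pow_right₀ (by simp) (le_max_right _ _)) hC')))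
  | mul_X p i hp =>
    obtain ⟨C, N, hC, hp⟩ := hp
    refine ⟨C, N + 1, hC, fun x => ?_⟩
    rw [map_mul, MvPolynomial.eval_X, norm_mul, pow_succ, ← mul_assoc]
    exact mul_le_mul (hp x) ((norm_le_pi_norm x i).trans (by simp)) (norm_nonneg _) (by positivity)

/-- A function entire on each line and of polynomial growth is a polynomial. -/
theorem exists_mvPolynomial_of_growth : ∀ (m : ℕ) (F : (Fin m → ℂ) → ℂ),
    (∀ x w, DifferentiableAt ℂ (fun s : ℂ => F (x + s • w)) 0) →
    (∃ C : ℝ, ∃ N : ℕ, 0 ≤ C ∧ ∀ x, ‖F x‖ ≤ C * (1 + ‖x‖) ^ N) → ∃ p, ∀ x, F x = MvPolynomial.eval x p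
  | 0, F, _, _ => ⟨MvPolynomial.C (F 0), fun x => by rw [MvPolynomial.eval_C, Subsingleton.elim x 0]⟩
  | m + 1, F, hd, ⟨C, N, hC, hb⟩ => by
    classical
    have hnorm : ∀ (t : ℂ) (x : Fin m → ℂ), ‖(Fin.cons t x : Fin (m + 1) → ℂ)‖ ≤ ‖t‖ + ‖x‖ := fun t x => by
      refine (pi_norm_le_iff_of_nonneg (by positivity)).2 (Fin.cases (by simp) fun i => ?_)
      simpa using (norm_le_pi_norm x i).trans (le_add_of_nonneg_left (norm_nonneg t))
    have hbound : ∀ (t : ℂ) (x : Fin m → ℂ),
        ‖F (Fin.cons t x)‖ ≤ C * ((1 + ‖t‖) ^ N * (1 + ‖x‖) ^ N) := fun t x => by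
      refine (hb _).trans (mul_le_mul_of_nonneg_left ?_ hC)
      rw [← mul_pow]
      refine pow_le_pow_left₀ (by positivity) ?_ N
      nlinarith [hnorm t x, norm_nonneg t, norm_nonneg x]
    have hpoly : ∀ x : Fin m → ℂ, ∃ p : Polynomial ℂ, p.natDegree ≤ N ∧ ∀ t, F (Fin.cons t x) = p.eval t := fun x => by
      refine exists_polynomial_of_growth N (C := C * (1 + ‖x‖) ^ N) ?_ (by positivity) fun t => (hbound t x).trans_eq (by ring)
      intro t₀
      have h1 := hd (Fin.cons t₀ x) (Fin.cons 1 0)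
      have h1' : DifferentiableAt ℂ (fun s : ℂ => F (Fin.cons t₀ x + s • Fin.cons 1 0)) (t₀ - t₀) := by
        rw [sub_self]; exact h1
      have h2 : DifferentiableAt ℂ ((fun s : ℂ => F (Fin.cons t₀ x + s • Fin.cons 1 0)) ∘ fun t : ℂ => t - t₀) t₀ :=
        DifferentiableAt.comp t₀ h1' (differentiableAt_id.sub_const t₀)
      have he : (fun t : ℂ => F (Fin.cons t₀ x + (t - t₀) • Fin.cons 1 0)) = fun t => F (Fin.cons t x) := by
        funext t; congr 1; funext i
        refine Fin.cases (by simp) (fun j => by simp) i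
      exact he ▸ h2
    have hk : ∀ k : ℕ, ∃ p, ∀ x : Fin m → ℂ, F (Fin.cons (k : ℂ) x) = MvPolynomial.eval x p := fun k => by
      refine exists_mvPolynomial_of_growth m _ (fun x w => ?_)
        ⟨C * (1 + ‖(k : ℂ)‖) ^ N, N, by positivity, fun x => (hbound _ x).trans_eq (by ring)⟩
      have := hd (Fin.cons (k : ℂ) x) (Fin.cons 0 w)
      refine this.congr_of_eventuallyEq (Eventually.of_forall fun s => ?_)
      simp only
      congr 1; funext i
      refine Fin.cases (by simp) (fun j => by simp) i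
    choose pk hpk using hk
    let L : ℕ → Polynomial ℂ := fun k => Lagrange.basis (Finset.range (N + 1)) (fun j : ℕ => (j : ℂ)) k
    refine ⟨∑ k ∈ Finset.range (N + 1),
      MvPolynomial.rename Fin.succ (pk k) * Polynomial.aeval (MvPolynomial.X 0) (L k), fun y => ?_⟩
    obtain ⟨p, hp, hpe⟩ := hpoly (Fin.tail y)
    have hi := Lagrange.eq_interpolate (s := Finset.range (N + 1)) (v := fun j : ℕ => (j : ℂ)) (f := p)
      (Nat.cast_injective.injOn) (lt_of_le_of_lt Polynomial.degree_le_natDegree (by rw [Finset.card_range]; exact_mod_cast Nat.lt_succ_of_le hp))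
    rw [show F y = F (Fin.cons (y 0) (Fin.tail y)) by rw [Fin.cons_self_tail], hpe, hi, Lagrange.interpolate_apply,
      Polynomial.eval_finsetSum, map_sum]
    refine Finset.sum_congr rfl fun k _ => ?_
    rw [Polynomial.eval_mul, Polynomial.eval_C, map_mul, MvPolynomial.eval_rename, ← hpe, hpk]
    congr 1
    change _ = MvPolynomial.eval y (Polynomial.aeval (MvPolynomial.X 0) (L k))
    rw [← MvPolynomial.aeval_eq_eval, ← Polynomial.aeval_algHom_apply, MvPolynomial.aeval_X, Polynomial.aeval_def,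
      Polynomial.eval₂_eq_eval_map]
    simp [L]

/-- A function of polynomial growth off a hypersurface, holomorphic on lines, agrees with a polynomial. -/
theorem exists_poly_extension {n : ℕ} (G : MvPolynomial (Fin n) ℂ) (hG : G ≠ 0) (c : (Fin n → ℂ) → ℂ)
    (hd : ∀ x w, MvPolynomial.eval x G ≠ 0 → DifferentiableAt ℂ (fun s : ℂ => c (x + s • w)) 0)
    (C : ℝ) (N : ℕ) (hC : 0 ≤ C) (hb : ∀ x, MvPolynomial.eval x G ≠ 0 → ‖c x‖ ≤ C * (1 + ‖x‖) ^ N) :
    ∃ p, ∀ x, MvPolynomial.eval x G ≠ 0 → c x = MvPolynomial.eval x p := by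
  classical
  let Good : (Fin n → ℂ) → (Fin n → ℂ) → Prop := fun x v => ∃ t : ℂ, MvPolynomial.eval (x + t • v) G ≠ 0
  have hfin : ∀ x v, Good x v → {t : ℂ | MvPolynomial.eval (x + t • v) G = 0}.Finite := by
    rintro x v ⟨t₀, ht₀⟩
    let p : Polynomial ℂ := MvPolynomial.aeval (fun i => Polynomial.C (x i) + Polynomial.X * Polynomial.C (v i)) G
    have hp : ∀ t : ℂ, p.eval t = MvPolynomial.eval (x + t • v) G := fun t => by
      change (Polynomial.aeval t) p = _
      rw [← AlgHom.comp_apply, MvPolynomial.comp_aeval, ← MvPolynomial.aeval_eq_eval]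
      refine congrArg (fun q => MvPolynomial.aeval q G) (funext fun i => ?_)
      simp
      ring
    have hp0 : p ≠ 0 := fun h => ht₀ (by simpa [h] using (hp t₀).symm)
    refine (Polynomial.finite_setOfPred_isRoot hp0).subset fun t ht => ?_
    exact (hp t).trans ht
  have hnear : ∀ (y w : Fin n → ℂ), MvPolynomial.eval y G ≠ 0 → ∀ᶠ s : ℂ in 𝓝 0, MvPolynomial.eval (y + s • w) G ≠ 0 :=
    fun y w hy => (((MvPolynomial.continuous_eval G).comp (by fun_prop : Continuous fun s : ℂ => y + s • w)).tendsto 0).eventually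
      (isOpen_ne.mem_nhds (by simpa using hy))
  -- extension along a line
  have hline : ∀ x v, Good x v → ∃ p : Polynomial ℂ, p.natDegree ≤ N ∧
      ∀ t : ℂ, MvPolynomial.eval (x + t • v) G ≠ 0 → c (x + t • v) = p.eval t := by
    intro x v hgood
    let Z := {t : ℂ | MvPolynomial.eval (x + t • v) G = 0}
    have hZ : Z.Finite := hfin x v hgood
    let cl : ℂ → ℂ := fun t => c (x + t • v)
    let f : ℂ → ℂ := fun t => if t ∈ Z then limUnder (𝓝[≠] t) cl else cl t
    have hcd : ∀ t ∉ Z, DifferentiableAt ℂ cl t := fun t ht => by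
      have h1 : DifferentiableAt ℂ (fun s : ℂ => c (x + t • v + s • v)) (t - t) := by
        rw [sub_self]; exact hd _ v ht
      have h2 : DifferentiableAt ℂ ((fun s : ℂ => c (x + t • v + s • v)) ∘ fun z => z - t) t :=
        DifferentiableAt.comp t h1 (differentiableAt_id.sub_const t)
      refine h2.congr_of_eventuallyEq (Eventually.of_forall fun z => ?_)
      simp only [cl, Function.comp]
      congr 1; rw [add_assoc, ← add_smul, add_sub_cancel]
    have hclb : ∀ t ∉ Z, ‖cl t‖ ≤ C * (1 + ‖x‖ + ‖v‖) ^ N * (1 + ‖t‖) ^ N := fun t ht => by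
      refine (hb _ ht).trans ?_
      rw [mul_assoc, ← mul_pow]
      refine mul_le_mul_of_nonneg_left (pow_le_pow_left₀ (by positivity) ?_ N) hC
      have := norm_add_le x (t • v)
      rw [norm_smul] at this
      nlinarith [norm_nonneg t, norm_nonneg x, norm_nonneg v]
    have hf : Differentiable ℂ f := by
      intro t₀
      obtain ⟨r, hr, hball⟩ : ∃ r > 0, ∀ t ∈ Metric.ball t₀ r, t ≠ t₀ → t ∉ Z := by
        obtain ⟨r, hr, hsub⟩ := Metric.mem_nhds_iff.1 ((hZ.diff (t := {t₀})).isClosed.isOpen_compl.mem_nhds (x := t₀) (by simp))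
        exact ⟨r, hr, fun t ht hne htZ => hsub ht ⟨htZ, hne⟩⟩
      by_cases h0 : t₀ ∈ Z
      · have hs : Metric.ball t₀ r ∈ 𝓝 t₀ := Metric.ball_mem_nhds _ hr
        have h1 := Complex.differentiableOn_update_limUnder_of_bddAbove (f := cl) hs
          (fun t ht => (hcd t (hball t ht.1 ht.2)).differentiableWithinAt) ⟨C * (1 + ‖x‖ + ‖v‖) ^ N * (1 + ‖t₀‖ + r) ^ N, by
            rintro _ ⟨t, ht, rfl⟩
            refine (hclb t (hball t ht.1 ht.2)).trans (mul_le_mul_of_nonneg_left (pow_le_pow_left₀ (by positivity) ?_ N) (by positivity))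
            have := mem_ball_iff_norm.1 ht.1
            linarith [norm_le_norm_add_norm_sub' t t₀]⟩
        refine (h1.differentiableAt hs).congr_of_eventuallyEq (eventually_of_mem hs fun t ht => ?_)
        rcases eq_or_ne t t₀ with rfl | hne
        · simp [f, h0]
        · simp [f, hball t ht hne, Function.update_of_ne hne]
      · refine (hcd t₀ h0).congr_of_eventuallyEq ?_
        filter_upwards [hZ.isClosed.isOpen_compl.mem_nhds h0] with t ht
        simp only [f]; rw [if_neg ht]
    obtain ⟨p, hp, hpe⟩ := exists_polynomial_of_growth N hf (C := C * (1 + ‖x‖ + ‖v‖) ^ N) (by positivity) fun t => by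
      refine le_of_tendsto_of_tendsto ((hf.continuous.norm.tendsto t).mono_left nhdsWithin_le_nhds)
        (((by fun_prop : Continuous fun t : ℂ => C * (1 + ‖x‖ + ‖v‖) ^ N * (1 + ‖t‖) ^ N).tendsto t).mono_left
          (nhdsWithin_le_nhds (s := {t}ᶜ))) ?_
      filter_upwards [nhdsWithin_le_nhds ((hZ.diff (t := {t})).isClosed.isOpen_compl.mem_nhds (x := t) (by simp)),
        self_mem_nhdsWithin] with s hs hst
      have : s ∉ Z := fun h => hs ⟨h, hst⟩
      simpa [f, this] using hclb s this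
    refine ⟨p, hp, fun t ht => ?_⟩
    rw [← hpe]
    exact (if_neg (show t ∉ Z from ht)).symm
  choose! P hP hPe using hline
  -- the value at the base point varies holomorphically
  have hdiff : ∀ y v w, Good y v → DifferentiableAt ℂ (fun s : ℂ => (P (y + s • w) v).eval 0) 0 := by
    intro y v w hgood
    obtain ⟨T, hTZ, hT⟩ := ((hfin y v hgood).infinite_compl).exists_subset_card_eq (N + 1)
    have hev : ∀ t ∈ T, ∀ᶠ s : ℂ in 𝓝 0, MvPolynomial.eval (y + t • v + s • w) G ≠ 0 := fun t ht =>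
      hnear _ w (hTZ ht)
    let L : ℂ → ℂ := fun t => (Lagrange.basis T id t).eval 0
    have heq : (fun s : ℂ => (P (y + s • w) v).eval 0) =ᶠ[𝓝 0] fun s => ∑ t ∈ T, c (y + t • v + s • w) * L t := by
      filter_upwards [(Finset.eventually_all T).2 hev] with s hs
      have hT0 : ∃ t, t ∈ T := Finset.card_pos.1 (by omega)
      obtain ⟨t₁, ht₁⟩ := hT0
      have hgood' : Good (y + s • w) v := ⟨t₁, by rw [add_right_comm]; exact hs t₁ ht₁⟩
      have hi := Lagrange.eq_interpolate (s := T) (v := id) (f := P (y + s • w) v) Function.injective_id.injOn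
        (lt_of_le_of_lt Polynomial.degree_le_natDegree (by rw [hT]; exact_mod_cast Nat.lt_succ_of_le (hP _ _ hgood')))
      conv_lhs => rw [hi]
      rw [Lagrange.interpolate_apply, Polynomial.eval_finsetSum]
      refine Finset.sum_congr rfl fun t ht => ?_
      rw [Polynomial.eval_mul, Polynomial.eval_C]
      congr 1
      change (P (y + s • w) v).eval t = _
      rw [← hPe (y + s • w) v hgood' t (by rw [add_right_comm]; exact hs t ht), add_right_comm]
    refine DifferentiableAt.congr_of_eventuallyEq ?_ heq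
    exact DifferentiableAt.fun_sum fun t ht => (hd _ w (hTZ ht)).mul_const _
  have hindep : ∀ y v v', Good y v → Good y v' → (P y v).eval 0 = (P y v').eval 0 := by
    intro y v v' hv hv'
    have h1 := ((hdiff y v v' hv).continuousAt.tendsto).mono_left (nhdsWithin_le_nhds (s := {(0 : ℂ)}ᶜ))
    simp only [zero_smul, add_zero] at h1
    refine tendsto_nhds_unique h1 ?_
    refine Tendsto.congr' ?_ (((P y v').continuous.tendsto 0).mono_left nhdsWithin_le_nhds)
    filter_upwards [nhdsWithin_le_nhds (((hfin y v' hv').diff (t := {(0 : ℂ)})).isClosed.isOpen_compl.mem_nhds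
      (x := (0 : ℂ)) (by simp)), self_mem_nhdsWithin] with t ht ht0
    have ht' : MvPolynomial.eval (y + t • v') G ≠ 0 := fun h => ht ⟨h, ht0⟩
    rw [← hPe y v' hv' t ht']
    have := hPe (y + t • v') v ⟨0, by simpa using ht'⟩ 0 (by simpa using ht')
    simpa using this
  obtain ⟨a, ha⟩ : ∃ a, MvPolynomial.eval a G ≠ 0 := by
    by_contra h
    push Not at h
    exact hG (MvPolynomial.funext fun v => by simpa using h v)
  have hgood : ∀ x, Good x (a - x) := fun x => ⟨1, by simpa using ha⟩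
  let cb : (Fin n → ℂ) → ℂ := fun x => (P x (a - x)).eval 0
  have hcb : ∀ x, MvPolynomial.eval x G ≠ 0 → cb x = c x := fun x hx => by
    have := hPe x (a - x) (hgood x) 0 (by simpa using hx)
    simpa using this.symm
  obtain ⟨p, hp⟩ := exists_mvPolynomial_of_growth n cb (fun x w => by
      refine (hdiff x (a - x) w (hgood x)).congr_of_eventuallyEq ?_
      have hev : ∀ᶠ s : ℂ in 𝓝 0, Good (x + s • w) (a - x) := (hnear a w ha).mono fun s hs => ⟨1, by
        rw [one_smul, show x + s • w + (a - x) = a + s • w by abel]; exact hs⟩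
      exact hev.mono fun s hs => hindep _ _ _ (hgood _) hs)
    ⟨C * (3 + 2 * ‖a‖) ^ N, N, by positivity, fun x => by
      obtain ⟨r, hr, hrZ⟩ : ∃ r ∈ Set.Icc (1 : ℝ) 2, ∀ z : ℂ, ‖z‖ = r → MvPolynomial.eval (x + z • (a - x)) G ≠ 0 := by
        obtain ⟨r, hr, hr'⟩ := ((Set.Icc_infinite (by norm_num : (1 : ℝ) < 2)).diff ((hfin x _ (hgood x)).image norm)).nonempty
        exact ⟨r, hr, fun z hz h => hr' ⟨z, h, hz⟩⟩
      refine Complex.norm_le_of_forall_mem_frontier_norm_le (U := Metric.ball (0 : ℂ) r) Metric.isBounded_ball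
        ((P x (a - x)).differentiable.diffContOnCl) (fun z hz => ?_) (subset_closure (by simp; linarith [hr.1]))
      rw [frontier_ball _ (by linarith [hr.1]), mem_sphere_zero_iff_norm] at hz
      rw [← hPe x (a - x) (hgood x) z (hrZ z hz)]
      refine (hb _ (hrZ z hz)).trans ?_
      rw [mul_assoc, ← mul_pow]
      refine mul_le_mul_of_nonneg_left (pow_le_pow_left₀ (by positivity) ?_ N) hC
      have h1 := norm_add_le x (z • (a - x))
      rw [norm_smul, hz] at h1
      have h2 : r * ‖a - x‖ ≤ 2 * (‖a‖ + ‖x‖) :=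
        mul_le_mul hr.2 (norm_sub_le a x) (norm_nonneg _) (by norm_num)
      nlinarith [norm_nonneg a, norm_nonneg x]⟩
  exact ⟨p, fun x hx => (hcb x hx).symm.trans (hp x)⟩

end Groth.Agent.AnBasic
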