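import Groth.Agent.AnBasic.Approx
import Groth.Agent.AnBasic.Extend

/-!
# Connectedness of the roots of an irreducible polynomial family
-/

set_option autoImplicit false

open Filter Topology
open scoped Polynomial Matrix

namespace Groth.Agent.AnBasic

variable {n : ℕ}

/-- The roots over the locus where a given polynomial does not vanish. -/
def rootLocus (F : (MvPolynomial (Fin n) ℂ)[X]) (G : MvPolynomial (Fin n) ℂ) : Set ((Fin n → ℂ) × ℂ) :=
  {z | MvPolynomial.eval z.1 G ≠ 0 ∧ (F.map (MvPolynomial.eval z.1)).IsRoot z.2}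

variable {F : (MvPolynomial (Fin n) ℂ)[X]} {G : MvPolynomial (Fin n) ℂ}

lemma card_roots_map (hF : F.Monic) (x : Fin n → ℂ)
    (hx : (F.map (MvPolynomial.eval x)).roots.Nodup) :
    (F.map (MvPolynomial.eval x)).roots.toFinset.card = F.natDegree := by
  rw [Multiset.toFinset_card_of_nodup hx, ← Polynomial.Splits.natDegree_eq_card_roots (IsAlgClosed.splits _),
    hF.natDegree_map]

lemma mem_roots_map (hF : F.Monic) (x : Fin n → ℂ) (t : ℂ) :
    t ∈ (F.map (MvPolynomial.eval x)).roots.toFinset ↔ (F.map (MvPolynomial.eval x)).IsRoot t := by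
  rw [Multiset.mem_toFinset, Polynomial.mem_roots (hF.map _).ne_zero]

/-- Local enumeration of the roots by continuous functions, differentiable along lines. -/
lemma exists_local_roots (hF : F.Monic) (hd0 : 0 < F.natDegree)
    (hsimple : ∀ x, MvPolynomial.eval x G ≠ 0 → (F.map (MvPolynomial.eval x)).roots.Nodup)
    (x₀ : Fin n → ℂ) (hx₀ : MvPolynomial.eval x₀ G ≠ 0) :
    ∃ r : (Fin n → ℂ) → Fin F.natDegree → ℂ,
      (∀ k, Tendsto (fun x => r x k) (𝓝 x₀) (𝓝 (r x₀ k))) ∧
      (∀ᶠ x in 𝓝 x₀, (∀ k, (x, r x k) ∈ rootLocus F G) ∧ Function.Injective (r x) ∧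
        (F.map (MvPolynomial.eval x)).roots.toFinset = Finset.univ.image (r x)) ∧
      (∀ w k, DifferentiableAt ℂ (fun s : ℂ => r (x₀ + s • w) k) 0) := by
  classical
  let r₀ : Fin F.natDegree → ℂ := fun k =>
    (((F.map (MvPolynomial.eval x₀)).roots.toFinset.equivFinOfCardEq (card_roots_map hF x₀ (hsimple x₀ hx₀))).symm k).1
  have hr₀ : ∀ k, (F.map (MvPolynomial.eval x₀)).IsRoot (r₀ k) := fun k =>
    (mem_roots_map hF x₀ _).1 (((F.map (MvPolynomial.eval x₀)).roots.toFinset.equivFinOfCardEq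
      (card_roots_map hF x₀ (hsimple x₀ hx₀))).symm k).2
  have hr₀inj : Function.Injective r₀ := Subtype.val_injective.comp (Equiv.injective _)
  -- nearest roots
  have hnear : ∀ (x : Fin n → ℂ) k, ∃ t, (F.map (MvPolynomial.eval x)).IsRoot t ∧
      ‖t - r₀ k‖ ^ F.natDegree ≤ ‖(F.map (MvPolynomial.eval x)).eval (r₀ k)‖ := by
    intro x k
    let R := F.map (MvPolynomial.eval x)
    have hR : R.Monic := hF.map _
    have hspl := IsAlgClosed.splits R
    have hdeg : Multiset.card R.roots = F.natDegree := by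
      rw [← Polynomial.Splits.natDegree_eq_card_roots hspl, hF.natDegree_map]
    obtain ⟨t₁, ht₁⟩ := Multiset.card_pos_iff_exists_mem.1 (hdeg ▸ hd0 : 0 < Multiset.card R.roots)
    obtain ⟨t, ht, hmin⟩ := R.roots.toFinset.exists_min_image (fun z => ‖r₀ k - z‖) ⟨t₁, Multiset.mem_toFinset.2 ht₁⟩
    refine ⟨t, Polynomial.isRoot_of_mem_roots (Multiset.mem_toFinset.1 ht), ?_⟩
    rw [hspl.eval_eq_prod_roots_of_monic hR, ← hdeg, norm_sub_rev]
    calc ‖r₀ k - t‖ ^ Multiset.card R.roots = (R.roots.map fun _ => ‖r₀ k - t‖).prod := by simp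
      _ ≤ (R.roots.map fun z => ‖r₀ k - z‖).prod :=
        Multiset.prod_map_le_prod_map₀ _ _ (fun _ _ => norm_nonneg _)
          fun z hz => hmin z (Multiset.mem_toFinset.2 hz)
      _ = ‖(R.roots.map (r₀ k - ·)).prod‖ := by
        rw [show ‖(R.roots.map (r₀ k - ·)).prod‖ = (normHom : ℂ →*₀ ℝ) _ from rfl, map_multiset_prod, Multiset.map_map]
        rfl
  choose r hr hrn using hnear
  have hevc : ∀ t : ℂ, Continuous fun x : Fin n → ℂ => (F.map (MvPolynomial.eval x)).eval t := fun t => by
    simp only [Polynomial.eval_map, Polynomial.eval₂_eq_sum_range]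
    exact continuous_finsetSum _ fun i _ => (MvPolynomial.continuous_eval _).mul continuous_const
  have hr0 : ∀ k, r x₀ k = r₀ k := fun k => by
    have := hrn x₀ k
    rw [hr₀ k, norm_zero] at this
    by_contra hne
    exact absurd this (not_le.2 (pow_pos (norm_pos_iff.2 (sub_ne_zero.2 hne)) _))
  have hlim : ∀ k, Tendsto (fun x => r x k) (𝓝 x₀) (𝓝 (r x₀ k)) := fun k => by
    rw [hr0, Metric.tendsto_nhds]
    intro ε hε
    have h0 : Tendsto (fun x => ‖(F.map (MvPolynomial.eval x)).eval (r₀ k)‖) (𝓝 x₀) (𝓝 0) := by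
      have := ((hevc (r₀ k)).tendsto x₀).norm
      rwa [hr₀ k, norm_zero] at this
    filter_upwards [h0.eventually (gt_mem_nhds (pow_pos hε F.natDegree))] with x hx
    rw [dist_eq_norm]
    exact lt_of_pow_lt_pow_left₀ _ hε.le ((hrn x k).trans_lt hx)
  have hG' : ∀ᶠ x in 𝓝 x₀, MvPolynomial.eval x G ≠ 0 :=
    ((MvPolynomial.continuous_eval G).tendsto x₀).eventually (isOpen_ne.mem_nhds hx₀)
  have hinj : ∀ᶠ x in 𝓝 x₀, Function.Injective (r x) := by
    have : ∀ k k', ∀ᶠ x in 𝓝 x₀, r x k = r x k' → k = k' := fun k k' => by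
      rcases eq_or_ne k k' with rfl | hne
      · exact Eventually.of_forall fun _ _ => rfl
      · filter_upwards [((hlim k).sub (hlim k')).eventually (isOpen_ne.mem_nhds
          (show r x₀ k - r x₀ k' ≠ 0 from sub_ne_zero.2 (by rw [hr0, hr0]; exact hr₀inj.ne hne)))] with x hx he
        exact absurd (sub_eq_zero.2 he) hx
    exact (eventually_all.2 fun k => eventually_all.2 (this k)).mono fun x hx k k' h => hx k k' h
  refine ⟨r, hlim, ?_, fun w k => ?_⟩
  · filter_upwards [hG', hinj] with x hx hxi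
    refine ⟨fun k => ⟨hx, hr x k⟩, hxi, (Finset.eq_of_subset_of_card_le (fun t ht => ?_) ?_).symm⟩
    · obtain ⟨k, -, rfl⟩ := Finset.mem_image.1 ht
      exact (mem_roots_map hF x _).2 (hr x k)
    · rw [card_roots_map hF x (hsimple x hx), Finset.card_image_of_injective _ hxi, Finset.card_univ, Fintype.card_fin]
  · -- differentiability along a line
    let y : ℂ → Fin n → ℂ := fun s => x₀ + s • w
    have hy : Continuous y := by fun_prop
    have hy0 : y 0 = x₀ := by simp [y]
    let e : ℂ → ℂ := fun s => (F.map (MvPolynomial.eval (y s))).eval (r₀ k)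
    let q : ℂ → ℂ := fun s => ∑ i ∈ Finset.range (F.natDegree + 1), MvPolynomial.eval (y s) (F.coeff i) *
      ∑ j ∈ Finset.range i, r (y s) k ^ j * r₀ k ^ (i - 1 - j)
    have hq : ∀ s, q s * (r (y s) k - r₀ k) = - e s := fun s => by
      have h1 : ∀ t, (F.map (MvPolynomial.eval (y s))).eval t =
          ∑ i ∈ Finset.range (F.natDegree + 1), MvPolynomial.eval (y s) (F.coeff i) * t ^ i := fun t => by
        rw [Polynomial.eval_map, Polynomial.eval₂_eq_sum_range]
      have h2 : - e s = (F.map (MvPolynomial.eval (y s))).eval (r (y s) k) - e s := by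
        rw [(hr (y s) k).eq_zero, zero_sub]
      rw [h2]
      simp only [e, h1, q, Finset.sum_mul, ← Finset.sum_sub_distrib]
      exact Finset.sum_congr rfl fun i _ => by rw [mul_assoc, ← mul_sub, geom_sum₂_mul]
    have hrlim : Tendsto (fun s => r (y s) k) (𝓝 0) (𝓝 (r₀ k)) := by
      have h1 : Tendsto y (𝓝 0) (𝓝 x₀) := hy0 ▸ hy.tendsto 0
      rw [← hr0]
      exact (hlim k).comp h1
    have hqlim : Tendsto q (𝓝 0) (𝓝 ((F.map (MvPolynomial.eval x₀)).derivative.eval (r₀ k))) := by
      have : Tendsto q (𝓝 0) (𝓝 (∑ i ∈ Finset.range (F.natDegree + 1), MvPolynomial.eval x₀ (F.coeff i) *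
          ∑ j ∈ Finset.range i, r₀ k ^ j * r₀ k ^ (i - 1 - j))) := by
        refine tendsto_finsetSum _ fun i _ => Tendsto.mul ?_ (tendsto_finsetSum _ fun j _ => (hrlim.pow j).mul tendsto_const_nhds)
        exact ((MvPolynomial.continuous_eval (F.coeff i)).tendsto x₀).comp (hy0 ▸ hy.tendsto 0)
      convert this using 2
      rw [Polynomial.derivative_eval, Polynomial.sum_over_range' _ (by simp) (F.natDegree + 1)
        (Nat.lt_succ_of_le Polynomial.natDegree_map_le)]
      refine Finset.sum_congr rfl fun i _ => ?_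
      rw [Polynomial.coeff_map, mul_assoc]
      congr 1
      rw [Finset.sum_congr rfl (g := fun _ => r₀ k ^ (i - 1)) (fun j hj => by
        rw [← pow_add]; congr 1; have := Finset.mem_range.1 hj; omega)]
      simp
    have hq0 : (F.map (MvPolynomial.eval x₀)).derivative.eval (r₀ k) ≠ 0 := fun h => by
      have h1 := (Polynomial.one_lt_rootMultiplicity_iff_isRoot (hF.map (MvPolynomial.eval x₀)).ne_zero).2 ⟨hr₀ k, h⟩
      rw [← Polynomial.count_roots] at h1
      exact absurd h1 (not_lt.2 (Multiset.nodup_iff_count_le_one.1 (hsimple x₀ hx₀) _))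
    have hed : DifferentiableAt ℂ e 0 := by
      simp only [e, Polynomial.eval_map, Polynomial.eval₂_eq_sum_range]
      refine DifferentiableAt.fun_sum fun i _ => DifferentiableAt.mul_const ?_ _
      change DifferentiableAt ℂ ((fun x => MvPolynomial.eval x (F.coeff i)) ∘ y) 0
      refine DifferentiableAt.comp 0 ?_ (by fun_prop)
      have : ∀ P : MvPolynomial (Fin n) ℂ, Differentiable ℂ fun x : Fin n → ℂ => MvPolynomial.eval x P := fun P => by
        induction P using MvPolynomial.induction_on with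
        | C a => simp
        | add p q hp hq => simpa using hp.fun_add hq
        | mul_X p i hp => simpa using hp.fun_mul (differentiable_apply i)
      exact (this _).differentiableAt
    have he0 : e 0 = 0 := by simp only [e, hy0]; exact hr₀ k
    have hslope := hasDerivAt_iff_tendsto_slope.1 hed.hasDerivAt
    refine HasDerivAt.differentiableAt (f' := -(deriv e 0) / (F.map (MvPolynomial.eval x₀)).derivative.eval (r₀ k)) ?_
    rw [hasDerivAt_iff_tendsto_slope]
    refine Tendsto.congr' ?_ (hslope.neg.div (hqlim.mono_left nhdsWithin_le_nhds) hq0)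
    filter_upwards [nhdsWithin_le_nhds (hqlim.eventually (isOpen_ne.mem_nhds hq0)), self_mem_nhdsWithin] with s hs hs0
    simp only [slope_def_field, he0, sub_zero, zero_smul, add_zero, hr0, Pi.div_apply]
    change -(e s / s) / q s = (r (y s) k - r₀ k) / s
    rw [div_eq_iff hs, div_mul_eq_mul_div, mul_comm (r (y s) k - r₀ k), hq, neg_div]

/-- Weighted power sums of the roots are polynomials. -/
lemma exists_sum_poly (hF : F.Monic) (hd0 : 0 < F.natDegree) (hG : G ≠ 0)
    (hsimple : ∀ x, MvPolynomial.eval x G ≠ 0 → (F.map (MvPolynomial.eval x)).roots.Nodup)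
    (φ : (Fin n → ℂ) × ℂ → ℂ) (hφ : ∀ z ∈ rootLocus F G, ∀ᶠ z' in 𝓝[rootLocus F G] z, φ z' = φ z)
    (hφb : ∀ z, ‖φ z‖ ≤ 1) (j : ℕ) :
    ∃ P : MvPolynomial (Fin n) ℂ, ∀ x, MvPolynomial.eval x G ≠ 0 →
      ∑ t ∈ (F.map (MvPolynomial.eval x)).roots.toFinset, φ (x, t) * t ^ j = MvPolynomial.eval x P := by
  classical
  -- growth of the roots
  choose Ci Ni hCi hbi using fun i : ℕ => exists_growth (F.coeff i)
  let C := 1 + ∑ i ∈ Finset.range F.natDegree, Ci i
  let N := ∑ i ∈ Finset.range F.natDegree, Ni i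
  have hsum0 : 0 ≤ ∑ i ∈ Finset.range F.natDegree, Ci i := Finset.sum_nonneg fun i _ => hCi i
  have hC1 : 1 ≤ C := le_add_of_nonneg_right hsum0
  have hroot : ∀ (x : Fin n → ℂ) (t : ℂ), (F.map (MvPolynomial.eval x)).IsRoot t → ‖t‖ ≤ C * (1 + ‖x‖) ^ N := by
    intro x t ht
    refine (norm_root_le _ (hF.map _) ht).trans ?_
    rw [hF.natDegree_map, add_mul, Finset.sum_mul]
    refine add_le_add (by rw [one_mul]; exact one_le_pow₀ (by simp)) (Finset.sum_le_sum fun i hi => ?_)
    rw [Polynomial.coeff_map]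
    exact (hbi i x).trans (mul_le_mul_of_nonneg_left
      (pow_le_pow_right₀ (by simp) (Finset.single_le_sum (f := Ni) (fun _ _ => Nat.zero_le _) hi)) (hCi i))
  refine exists_poly_extension G hG _ (fun x w hx => ?_) (F.natDegree * C ^ j) (N * j) (by positivity) fun x hx => ?_
  · obtain ⟨r, hlim, hev, hdiff⟩ := exists_local_roots hF hd0 hsimple x hx
    obtain ⟨hmem, -, -⟩ := hev.self_of_nhds
    have hev2 : ∀ k, ∀ᶠ x' in 𝓝 x, φ (x', r x' k) = φ (x, r x k) := fun k => by
      have h1 : Tendsto (fun x' => (x', r x' k)) (𝓝 x) (𝓝[rootLocus F G] (x, r x k)) :=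
        tendsto_nhdsWithin_iff.2 ⟨tendsto_id.prodMk_nhds (hlim k), hev.mono fun x' hx' => hx'.1 k⟩
      exact h1.eventually (hφ _ (hmem k))
    have hy : Tendsto (fun s : ℂ => x + s • w) (𝓝 0) (𝓝 x) := by
      have : Continuous fun s : ℂ => x + s • w := by fun_prop
      simpa using this.tendsto 0
    refine DifferentiableAt.congr_of_eventuallyEq (f := fun s : ℂ => ∑ k, φ (x, r x k) * r (x + s • w) k ^ j) ?_ ?_
    · exact DifferentiableAt.fun_sum fun k _ => ((hdiff w k).pow j).const_mul _
    · filter_upwards [hy.eventually hev, hy.eventually (eventually_all.2 hev2)] with s hs hs'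
      rw [hs.2.2, Finset.sum_image (fun a _ b _ h => hs.2.1 h)]
      exact Finset.sum_congr rfl fun k _ => by rw [hs' k]
  · refine (norm_sum_le _ _).trans ?_
    rw [mul_assoc, pow_mul, ← mul_pow, ← card_roots_map hF x (hsimple x hx), ← nsmul_eq_mul]
    refine Finset.sum_le_card_nsmul _ _ _ fun t ht => ?_
    rw [norm_mul, norm_pow]
    exact (mul_le_of_le_one_left (by positivity) (hφb _)).trans
      (pow_le_pow_left₀ (norm_nonneg _) (hroot x t ((mem_roots_map hF x t).1 ht)) j)

lemma dvd_of_eval_eq_zero (hF : F.Monic) (hF1 : F ≠ 1) (hG : G ≠ 0)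
    (hsimple : ∀ x, MvPolynomial.eval x G ≠ 0 → (F.map (MvPolynomial.eval x)).roots.Nodup)
    (q : (MvPolynomial (Fin n) ℂ)[X])
    (hq : ∀ z ∈ rootLocus F G, (q.map (MvPolynomial.eval z.1)).eval z.2 = 0) : F ∣ q := by
  classical
  rw [← Polynomial.modByMonic_eq_zero_iff_dvd hF]
  have hdeg : (q %ₘ F).natDegree < F.natDegree := Polynomial.natDegree_modByMonic_lt q hF hF1
  refine Polynomial.ext fun i => ?_
  rw [Polynomial.coeff_zero]
  refine (mul_eq_zero.1 (show (q %ₘ F).coeff i * G = 0 from MvPolynomial.funext fun x => ?_)).resolve_right hG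
  rw [map_mul, map_zero]
  by_cases hx : MvPolynomial.eval x G = 0
  · rw [hx, mul_zero]
  have h0 : (q %ₘ F).map (MvPolynomial.eval x) = 0 := by
    refine Polynomial.eq_zero_of_natDegree_lt_card_of_eval_eq_zero' _ (F.map (MvPolynomial.eval x)).roots.toFinset
      (fun t ht => ?_) (by rw [card_roots_map hF x (hsimple x hx)]; exact Polynomial.natDegree_map_le.trans_lt hdeg)
    have hroot := (mem_roots_map hF x t).1 ht
    have h1 := hq (x, t) ⟨hx, hroot⟩
    rw [← Polynomial.modByMonic_add_div q F, Polynomial.map_add, Polynomial.map_mul, Polynomial.eval_add,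
      Polynomial.eval_mul, hroot.eq_zero, zero_mul, add_zero] at h1
    exact h1
  rw [← Polynomial.coeff_map, h0, Polynomial.coeff_zero, zero_mul]

/-- The root locus of an irreducible family is connected. -/
theorem isPreconnected_rootLocus (hF : F.Monic) (hirr : Irreducible F) (hG : G ≠ 0)
    (hsimple : ∀ x, MvPolynomial.eval x G ≠ 0 → (F.map (MvPolynomial.eval x)).roots.Nodup) :
    IsPreconnected (rootLocus F G) := by
  classical
  have hd0 : 0 < F.natDegree := by
    by_contra h
    exact hirr.not_isUnit ((hF.natDegree_eq_zero.1 (by omega)) ▸ isUnit_one)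
  rw [isPreconnected_iff_preconnectedSpace]
  refine preconnectedSpace_of_forall_constant fun P hP a b => ?_
  let φ : (Fin n → ℂ) × ℂ → ℂ := fun z => if h : z ∈ rootLocus F G then (if P ⟨z, h⟩ then 1 else 0) else 0
  have hφ01 : ∀ z, φ z = 0 ∨ φ z = 1 := fun z => by
    simp only [φ]; split_ifs <;> simp
  have hφ : ∀ z ∈ rootLocus F G, ∀ᶠ z' in 𝓝[rootLocus F G] z, φ z' = φ z := fun z hz => by
    have h1 : ∀ᶠ w in 𝓝 (⟨z, hz⟩ : rootLocus F G), P w = P ⟨z, hz⟩ :=
      hP.continuousAt.eventually ((isOpen_discrete {P ⟨z, hz⟩}).mem_nhds rfl)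
    rw [eventually_nhdsWithin_iff]
    rw [nhds_subtype, eventually_comap] at h1
    exact h1.mono fun z' hz' hmem => by
      simp only [φ, dif_pos hmem, dif_pos hz, hz' ⟨z', hmem⟩ rfl]
  have hφb : ∀ z, ‖φ z‖ ≤ 1 := fun z => by rcases hφ01 z with h | h <;> simp [h]
  choose μ hμ using exists_sum_poly hF hd0 hG hsimple (fun _ => (1 : ℂ))
    (fun _ _ => Eventually.of_forall fun _ => rfl) (fun _ => by simp)
  choose σ hσ using exists_sum_poly hF hd0 hG hsimple φ hφ hφb
  let M : Matrix (Fin F.natDegree) (Fin F.natDegree) (MvPolynomial (Fin n) ℂ) := Matrix.of fun i j => μ (i + j)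
  let H : Fin F.natDegree → MvPolynomial (Fin n) ℂ := M.adjugate *ᵥ fun i => σ i
  let h : (MvPolynomial (Fin n) ℂ)[X] := ∑ i : Fin F.natDegree, Polynomial.monomial (i : ℕ) (H i)
  have hsolve : ∀ x, MvPolynomial.eval x G ≠ 0 → MvPolynomial.eval x M.det ≠ 0 ∧
      ∀ t, (x, t) ∈ rootLocus F G → (h.map (MvPolynomial.eval x)).eval t = MvPolynomial.eval x M.det * φ (x, t) := by
    intro x hx
    let R := (F.map (MvPolynomial.eval x)).roots.toFinset
    let eq := R.equivFinOfCardEq (card_roots_map hF x (hsimple x hx))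
    let v : Fin F.natDegree → ℂ := fun k => (eq.symm k).1
    have hv : Function.Injective v := Subtype.val_injective.comp eq.symm.injective
    have hsum : ∀ g : ℂ → ℂ, ∑ t ∈ R, g t = ∑ k, g (v k) := fun g => by
      rw [← Finset.sum_coe_sort R, ← eq.symm.sum_comp]
    let V := Matrix.vandermonde v
    have hM : (MvPolynomial.eval x).mapMatrix M = Vᵀ * V := by
      refine Matrix.ext fun i j => ?_
      rw [Matrix.vandermonde_transpose_mul_vandermonde]
      change MvPolynomial.eval x (μ (i + j)) = _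
      rw [← hμ _ x hx, hsum]
      simp
    have hVt : Vᵀ.det ≠ 0 := by
      rw [Matrix.det_transpose]; exact Matrix.det_vandermonde_ne_zero_iff.2 hv
    have hdet : MvPolynomial.eval x M.det ≠ 0 := by
      rw [RingHom.map_det, hM, Matrix.det_mul]
      exact mul_ne_zero hVt (Matrix.det_vandermonde_ne_zero_iff.2 hv)
    refine ⟨hdet, fun t ht => ?_⟩
    let φv : Fin F.natDegree → ℂ := fun k => φ (x, v k)
    have hσv : (fun i : Fin F.natDegree => MvPolynomial.eval x (σ i)) = Vᵀ *ᵥ φv := funext fun i => by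
      rw [← hσ _ x hx, hsum]
      exact Finset.sum_congr rfl fun k _ => mul_comm _ _
    have hH : (fun i => MvPolynomial.eval x (H i)) =
        ((MvPolynomial.eval x).mapMatrix M).adjugate *ᵥ (fun i : Fin F.natDegree => MvPolynomial.eval x (σ i)) :=
      funext fun i => by
        rw [← RingHom.map_adjugate]
        exact RingHom.map_mulVec (MvPolynomial.eval x) _ _ i
    have hkey : V *ᵥ (fun i => MvPolynomial.eval x (H i)) = MvPolynomial.eval x M.det • φv := by
      refine sub_eq_zero.1 (Matrix.eq_zero_of_mulVec_eq_zero hVt ?_)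
      rw [Matrix.mulVec_sub, Matrix.mulVec_mulVec, ← hM, hH, Matrix.mulVec_mulVec, Matrix.mul_adjugate,
        Matrix.smul_mulVec, Matrix.one_mulVec, Matrix.mulVec_smul, ← RingHom.map_det, hσv, sub_self]
    obtain ⟨k, rfl⟩ : ∃ k, v k = t := ⟨eq ⟨t, (mem_roots_map hF x t).2 ht.2⟩, by simp [v]⟩
    have := congrFun hkey k
    rw [Pi.smul_apply, smul_eq_mul] at this
    rw [← this]
    simp only [h, Polynomial.map_sum, Polynomial.map_monomial, Polynomial.eval_finsetSum, Polynomial.eval_monomial,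
      Matrix.mulVec, dotProduct, V, Matrix.vandermonde_apply]
    exact Finset.sum_congr rfl fun i _ => mul_comm _ _
  have hF1 : F ≠ 1 := fun h1 => hirr.not_isUnit (h1 ▸ isUnit_one)
  have hdvd : F ∣ h * (h - Polynomial.C M.det) := by
    refine dvd_of_eval_eq_zero hF hF1 hG hsimple _ fun z hz => ?_
    rw [Polynomial.map_mul, Polynomial.map_sub, Polynomial.map_C, Polynomial.eval_mul, Polynomial.eval_sub,
      Polynomial.eval_C, (hsolve z.1 hz.1).2 z.2 hz]
    rcases hφ01 (z.1, z.2) with h0 | h0 <;> rw [h0] <;> ring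
  have hdegh : h.degree < F.degree := by
    rw [Polynomial.degree_eq_natDegree hF.ne_zero]
    exact Finset.sum_induction _ (fun p : (MvPolynomial (Fin n) ℂ)[X] => p.degree < F.natDegree)
      (fun p q hp hq => (Polynomial.degree_add_le p q).trans_lt (max_lt hp hq))
      (by rw [Polynomial.degree_zero]; exact WithBot.bot_lt_coe _)
      (fun i _ => (Polynomial.degree_monomial_le _ _).trans_lt (by exact_mod_cast i.2))
  have hφval : ∀ z : rootLocus F G, φ z.1 = if P z then 1 else 0 := fun z => by simp only [φ, dif_pos z.2]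
  have hconst : ∀ c : ℂ, (∀ z : rootLocus F G, φ z.1 = c) → P a = P b := fun c hc => by
    have h1 := (hφval a).symm.trans (hc a)
    have h2 := (hφval b).symm.trans (hc b)
    rw [← h2] at h1
    cases hPa : P a <;> cases hPb : P b <;> simp [hPa, hPb] at h1 ⊢
  rcases hirr.prime.dvd_or_dvd hdvd with hh | hh
  · have hh0 : h = 0 := Polynomial.eq_zero_of_dvd_of_degree_lt hh hdegh
    refine hconst 0 fun z => ?_
    obtain ⟨h1, h2⟩ := hsolve z.1.1 z.2.1
    have := h2 z.1.2 z.2
    rw [hh0, Polynomial.map_zero, Polynomial.eval_zero] at this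
    exact (mul_eq_zero.1 this.symm).resolve_left h1
  · have hh0 : h - Polynomial.C M.det = 0 := Polynomial.eq_zero_of_dvd_of_degree_lt hh
      ((Polynomial.degree_sub_le _ _).trans_lt (max_lt hdegh (Polynomial.degree_C_le.trans_lt
        (by rw [Polynomial.degree_eq_natDegree hF.ne_zero]; exact_mod_cast hd0))))
    refine hconst 1 fun z => ?_
    obtain ⟨h1, h2⟩ := hsolve z.1.1 z.2.1
    have := h2 z.1.2 z.2
    rw [sub_eq_zero.1 hh0, Polynomial.map_C, Polynomial.eval_C] at this
    exact mul_left_cancel₀ h1 (this.symm.trans (mul_one _).symm)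

end Groth.Agent.AnBasic
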