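import Groth.Agent.AnBasic.Sep
import Groth.Agent.UnivClosed.Basic
import Mathlib.Order.Filter.FilterProduct

/-!
# Properness on complex points
-/

set_option autoImplicit false

open CategoryTheory AlgebraicGeometry Topology TopologicalSpace Filter
open An

namespace Groth.Agent.AnBasic

section Germs

variable {ι : Type} (u : Ultrafilter ι)

local notation "K" => Germ (u : Filter ι) ℂ

/-- Bounded germs form a valuation subring. -/
noncomputable def bdd : ValuationSubring K where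
  carrier := {k | ∃ h : ι → ℂ, ∃ R : ℝ, (∀ᶠ i in (u : Filter ι), ‖h i‖ ≤ R) ∧ (h : K) = k}
  mul_mem' := by
    rintro _ _ ⟨h, R, hR, rfl⟩ ⟨h', R', hR', rfl⟩
    exact ⟨h * h', max R 0 * max R' 0, (hR.and hR').mono fun i hi => by
      rw [Pi.mul_apply, norm_mul]
      exact mul_le_mul (hi.1.trans (le_max_left _ _)) (hi.2.trans (le_max_left _ _)) (norm_nonneg _) (le_max_right _ _), rfl⟩
  one_mem' := ⟨1, 1, Eventually.of_forall fun _ => by simp, rfl⟩
  add_mem' := by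
    rintro _ _ ⟨h, R, hR, rfl⟩ ⟨h', R', hR', rfl⟩
    exact ⟨h + h', R + R', (hR.and hR').mono fun i hi => (norm_add_le _ _).trans (add_le_add hi.1 hi.2), rfl⟩
  zero_mem' := ⟨0, 0, Eventually.of_forall fun _ => by simp, rfl⟩
  neg_mem' := by
    rintro _ ⟨h, R, hR, rfl⟩
    exact ⟨-h, R, hR.mono fun i hi => by simpa using hi, rfl⟩
  mem_or_inv_mem' := fun k => Germ.inductionOn k fun h => by
    rcases u.em (fun i => ‖h i‖ ≤ 1) with hh | hh
    · exact Or.inl ⟨h, 1, hh, rfl⟩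
    · refine Or.inr ⟨fun i => (h i)⁻¹, 1, hh.mono fun i hi => ?_, rfl⟩
      rw [norm_inv]
      exact inv_le_one_of_one_le₀ (le_of_lt (not_le.1 hi))

lemma exists_lim (k : bdd u) : ∃ l : ℂ, ∀ h : ι → ℂ, (h : K) = (k : K) → Tendsto h u (𝓝 l) := by
  obtain ⟨h, R, hR, hk⟩ := k.2
  obtain ⟨l, -, hl⟩ := (isCompact_closedBall (0 : ℂ) R).ultrafilter_le_nhds' (u.map h)
    (Ultrafilter.mem_map.2 (hR.mono fun i hi => by simpa using hi))
  exact ⟨l, fun h' hh' => Tendsto.congr' ((Germ.coe_eq.1 (hh'.trans hk.symm)).symm) hl⟩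

/-- The standard part. -/
noncomputable def st : bdd u →+* ℂ :=
  let L := fun k => (exists_lim u k).choose
  have hL : ∀ (k : bdd u) (h : ι → ℂ), (h : K) = (k : K) → Tendsto h u (𝓝 (L k)) :=
    fun k => (exists_lim u k).choose_spec
  { toFun := L
    map_one' := tendsto_nhds_unique (hL 1 1 rfl) tendsto_const_nhds
    map_zero' := tendsto_nhds_unique (hL 0 0 rfl) tendsto_const_nhds
    map_mul' := fun k k' => by
      obtain ⟨h, R, hR, hk⟩ := k.2
      obtain ⟨h', R', hR', hk'⟩ := k'.2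
      exact tendsto_nhds_unique (hL (k * k') (h * h') (by rw [Germ.coe_mul, hk, hk']; rfl))
        ((hL k h hk).mul (hL k' h' hk'))
    map_add' := fun k k' => by
      obtain ⟨h, R, hR, hk⟩ := k.2
      obtain ⟨h', R', hR', hk'⟩ := k'.2
      exact tendsto_nhds_unique (hL (k + k') (h + h') (by rw [Germ.coe_add, hk, hk']; rfl))
        ((hL k h hk).add (hL k' h' hk')) }

lemma tendsto_st (k : bdd u) (h : ι → ℂ) (hk : (h : K) = (k : K)) : Tendsto h u (𝓝 (st u k)) :=
  (exists_lim u k).choose_spec h hk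

lemma st_surjective : Function.Surjective (st u) := fun l =>
  ⟨⟨((fun _ => l : ι → ℂ) : K), fun _ => l, ‖l‖, Eventually.of_forall fun _ => le_rfl, rfl⟩,
    tendsto_nhds_unique (tendsto_st u _ _ rfl) tendsto_const_nhds⟩

lemma ker_st : RingHom.ker (st u) = IsLocalRing.maximalIdeal (bdd u) :=
  IsLocalRing.eq_maximalIdeal (RingHom.ker_isMaximal_of_surjective _ (st_surjective u))

end Germs

variable {X Y : Scheme.{0}} [X.Over An.SC] [Y.Over An.SC]

/-- Values at a morphism from a spectrum into an affine open. -/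
lemma appLE_fromSpec {V : X.Opens} (hV : IsAffineOpen V) {T : CommRingCat.{0}} (θ : Γ(X, V) ⟶ T)
    (h : (⊤ : (Spec T).Opens) ≤ (Spec.map θ ≫ hV.fromSpec) ⁻¹ᵁ V) :
    (Spec.map θ ≫ hV.fromSpec).appLE V ⊤ h ≫ (Scheme.ΓSpecIso T).hom = θ := by
  have h₀ : (⊤ : (Spec Γ(X, V)).Opens) ≤ hV.fromSpec ⁻¹ᵁ V := hV.fromSpec_preimage_self.ge
  have key : hV.fromSpec.appLE V ⊤ h₀ = (Scheme.ΓSpecIso Γ(X, V)).inv := by
    rw [Scheme.Hom.appLE, hV.fromSpec_app_self, Category.assoc, ← Functor.map_comp]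
    exact (congrArg (_ ≫ ·) ((Spec Γ(X, V)).presheaf.map_id _)).trans (Category.comp_id _)
  rw [← Scheme.Hom.appLE_comp_appLE (Spec.map θ) hV.fromSpec V ⊤ ⊤ h₀ le_rfl, key, Category.assoc]
  change (Scheme.ΓSpecIso Γ(X, V)).inv ≫ (Spec.map θ).appLE ⊤ ((Spec.map θ) ⁻¹ᵁ ⊤) le_rfl ≫ _ = θ
  rw [Scheme.Hom.appLE_eq_app]
  change (Scheme.ΓSpecIso Γ(X, V)).inv ≫ (Spec.map θ).appTop ≫ _ = θ
  rw [Scheme.ΓSpecIso_naturality, Iso.inv_hom_id_assoc]

/-- The germ of the values along an ultrafilter. -/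
noncomputable def germEv (u : Ultrafilter (Pts X)) (W : X.Opens) (hW : ∀ᶠ c in (u : Filter (Pts X)), c.pt ∈ W) :
    Γ(X, W) →+* Germ (u : Filter (Pts X)) ℂ where
  toFun b := ((evT W b : Pts X → ℂ) : Germ (u : Filter (Pts X)) ℂ)
  map_one' := Germ.coe_eq.2 (hW.mono fun c hc => by simp [evT_eq_evHom hc])
  map_zero' := Germ.coe_eq.2 (hW.mono fun c hc => by simp [evT_eq_evHom hc])
  map_mul' x y := Germ.coe_eq.2 (hW.mono fun c hc => by simp [evT_eq_evHom hc])
  map_add' x y := Germ.coe_eq.2 (hW.mono fun c hc => by simp [evT_eq_evHom hc])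

variable (f : X ⟶ Y) [f.IsOver An.SC]

/-- A point with values in a valued field extending over the base specializes to a complex point. -/
theorem exists_lift_pt [UniversallyClosed f] {K : Type} [Field K] (O : ValuationSubring K) (σ : O →+* ℂ)
    (hσ : Function.Surjective σ) {V : Y.Opens} (hV : IsAffineOpen V) {W : X.Opens} (hW : IsAffineOpen W)
    (hWV : W ≤ f ⁻¹ᵁ V) (θ : Γ(X, W) →+* K) (ψ : Γ(Y, V) →+* O)
    (hψ : ∀ v, (ψ v : K) = θ (f.appLE V W hWV v))
    (φy : Γ(Y, V) ⟶ CommRingCat.of ℂ) (hφy : strV hV ≫ φy = 𝟙 _) (hst : ∀ v, σ (ψ v) = φy v) :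
    ∃ a : Pts X, Pts.map f a = mkPt hV φy hφy ∧ ∀ W' : X.Opens, IsAffineOpen W' → a.pt ∈ W' →
      ∃ s : Γ(X, W), θ s ≠ 0 ∧ ∃ hs : X.basicOpen s ≤ W', ∀ b : Γ(X, W'), ∃ (k : ℕ) (b' : Γ(X, W)),
        X.presheaf.map (homOfLE hs).op b * X.presheaf.map (homOfLE (X.basicOpen_le s)).op s ^ k =
          X.presheaf.map (homOfLE (X.basicOpen_le s)).op b' ∧
        ∃ o : O, (o : K) * θ s ^ k = θ b' ∧ σ o = evT W' b a := by
  let θ' : Γ(X, W) ⟶ CommRingCat.of K := CommRingCat.ofHom θ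
  let ψ₀ : Γ(Y, V) ⟶ CommRingCat.of O := CommRingCat.ofHom ψ
  let incl : CommRingCat.of O ⟶ CommRingCat.of K := CommRingCat.ofHom (algebraMap O K)
  have hψ₀ : ψ₀ ≫ incl = f.appLE V W hWV ≫ θ' := CommRingCat.hom_ext (RingHom.ext fun v => hψ v)
  have hsq : CommSq (Spec.map θ' ≫ hW.fromSpec) (Spec.map incl) f (Spec.map ψ₀ ≫ hV.fromSpec) := ⟨by
    rw [Category.assoc, ← IsAffineOpen.SpecMap_appLE_fromSpec f hV hW hWV, ← Category.assoc, ← Category.assoc,
      ← Spec.map_comp, ← Spec.map_comp, hψ₀]⟩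
  have hE : ValuativeCriterion.Existence f := by
    have h := ‹UniversallyClosed f›
    rw [UniversallyClosed.eq_valuativeCriterion] at h
    exact h.1
  obtain ⟨⟨l, hl1, hl2⟩⟩ := hE ⟨O, K, _, _, hsq⟩
  let stm : CommRingCat.of O ⟶ CommRingCat.of ℂ := CommRingCat.ofHom σ
  have hst' : ψ₀ ≫ stm = φy := CommRingCat.hom_ext (RingHom.ext hst)
  have ha1 : (Spec.map stm ≫ l) ≫ f = (mkPt hV φy hφy).1 := by
    rw [Category.assoc, hl2, ← Category.assoc, ← Spec.map_comp, hst']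
    rfl
  let a : Pts X := ⟨Spec.map stm ≫ l, by
    rw [← comp_over f, ← Category.assoc (Spec.map stm ≫ l), ha1]
    exact (mkPt hV φy hφy).2⟩
  refine ⟨a, Subtype.ext ha1, fun W' hW' haW' => ?_⟩
  have hclosed : a.pt = l (IsLocalRing.closedPoint O) := by
    change (Spec.map stm ≫ l) cpt = _
    rw [Scheme.Hom.comp_apply]
    congr 1
    refine PrimeSpectrum.ext ?_
    refine Eq.trans ?_ (IsLocalRing.eq_maximalIdeal (RingHom.ker_isMaximal_of_surjective σ hσ))
    exact congrArg (Ideal.comap σ) (congrArg PrimeSpectrum.asIdeal (Subsingleton.elim (α := PrimeSpectrum ℂ) cpt ⊥))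
  have hl : Set.range l ⊆ Set.range hW'.fromSpec := by
    rintro _ ⟨q, rfl⟩
    rw [hW'.range_fromSpec]
    exact W'.2.stableUnderGeneralization ((IsLocalRing.specializes_closedPoint q).map l.continuous) (hclosed ▸ haW')
  let ψ' := Spec.preimage (IsOpenImmersion.lift hW'.fromSpec l hl)
  have hψ' : Spec.map ψ' ≫ hW'.fromSpec = l := by rw [Spec.map_preimage, IsOpenImmersion.lift_fac]
  have hx' : Spec.map θ' ≫ hW.fromSpec = Spec.map (ψ' ≫ incl) ≫ hW'.fromSpec := by
    rw [Spec.map_comp, Category.assoc, hψ']; exact hl1.symm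
  let p : Spec (CommRingCat.of K) := (⊥ : PrimeSpectrum K)
  have hpW : (Spec.map θ' ≫ hW.fromSpec) p ∈ W := by
    rw [Scheme.Hom.comp_apply]
    exact (Set.ext_iff.1 hW.range_fromSpec _).1 ⟨_, rfl⟩
  have hpW' : (Spec.map θ' ≫ hW.fromSpec) p ∈ W' := by
    rw [hx', Scheme.Hom.comp_apply]
    exact (Set.ext_iff.1 hW'.range_fromSpec _).1 ⟨_, rfl⟩
  obtain ⟨s, hsW', hps⟩ := hW.exists_basicOpen_le (V := W') ⟨_, hpW'⟩ hpW
  have hθs : θ s ≠ 0 := by
    have h1 : (Spec.map θ') p ∈ hW.fromSpec ⁻¹ᵁ X.basicOpen s := by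
      change hW.fromSpec ((Spec.map θ') p) ∈ X.basicOpen s
      rw [← Scheme.Hom.comp_apply]
      exact hps
    rw [hW.fromSpec_preimage_basicOpen] at h1
    exact h1
  refine ⟨s, hθs, hsW', fun b => ?_⟩
  haveI := hW.isLocalization_basicOpen s
  obtain ⟨k, b', hb⟩ := IsLocalization.Away.surj s (X.presheaf.map (homOfLE hsW').op b)
  rw [RingHom.algebraMap_toAlgebra] at hb
  refine ⟨k, b', hb, ψ' b, ?_, ?_⟩
  · have hDtop : ∀ (m : Spec (CommRingCat.of K) ⟶ X), m = Spec.map θ' ≫ hW.fromSpec → ⊤ ≤ m ⁻¹ᵁ X.basicOpen s := by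
      rintro m rfl q -
      rw [show q = p from Subsingleton.elim (α := PrimeSpectrum K) _ _]
      exact hps
    let xe := (Spec.map θ' ≫ hW.fromSpec).appLE (X.basicOpen s) ⊤ (hDtop _ rfl) ≫ (Scheme.ΓSpecIso _).hom
    have hxW : X.presheaf.map (homOfLE (X.basicOpen_le s)).op ≫ xe = θ' := by
      rw [← Category.assoc, Scheme.Hom.map_appLE]
      exact appLE_fromSpec hW θ' _
    have hxW' : X.presheaf.map (homOfLE hsW').op ≫ xe = ψ' ≫ incl := by
      have gen : ∀ (m m' : Spec (CommRingCat.of K) ⟶ X) (_ : m = m') (h : ⊤ ≤ m ⁻¹ᵁ W') (h' : ⊤ ≤ m' ⁻¹ᵁ W'),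
          m.appLE W' ⊤ h = m'.appLE W' ⊤ h' := by rintro m _ rfl h h'; rfl
      rw [← Category.assoc, Scheme.Hom.map_appLE,
        gen _ _ hx' _ (fun q hq => hsW' (hDtop _ hx'.symm hq))]
      exact appLE_fromSpec hW' (ψ' ≫ incl) _
    have hb' := congrArg xe.hom hb
    rw [map_mul, map_pow] at hb'
    rw [show xe.hom (X.presheaf.map (homOfLE hsW').op b) = incl (ψ' b) from congrArg (fun ψ => ψ b) hxW',
      show ∀ r, xe.hom (X.presheaf.map (homOfLE (X.basicOpen_le s)).op r) = θ' r from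
        fun r => congrArg (fun ψ => ψ r) hxW,
      show ∀ r, xe.hom (X.presheaf.map (homOfLE (X.basicOpen_le s)).op r) = θ' r from
        fun r => congrArg (fun ψ => ψ r) hxW] at hb'
    exact hb'
  · rw [evT_of_fromSpec hW' (ψ' ≫ stm) a (by rw [Spec.map_comp, Category.assoc, hψ']) b]
    rfl

/-- A universally closed morphism gives a proper map of complex points. -/
theorem isProperMap_map [UniversallyClosed f] : IsProperMap (Pts.map f) := by
  classical
  refine isProperMap_iff_ultrafilter.2 ⟨Pts.continuous_map f, fun u y hy => ?_⟩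
  obtain ⟨_, ⟨V, hV, rfl⟩, hyV, -⟩ :=
    Y.isBasis_affineOpens.exists_subset_of_mem_open (Set.mem_univ y.pt) isOpen_univ
  replace hV : IsAffineOpen V := hV
  have hcV : ∀ᶠ c in (u : Filter (Pts X)), c.pt ∈ f ⁻¹ᵁ V := (hy.eventually (eventually_mem hyV)).mono fun c hc => by
    rw [Pts.pt_map] at hc; exact hc
  have hcpt : IsCompact (f ⁻¹ᵁ V : Set X) := f.isCompact_preimage hV.isCompact
  have hcov : ∀ x : (f ⁻¹ᵁ V : X.Opens), ∃ W : X.Opens, IsAffineOpen W ∧ x.1 ∈ W ∧ W ≤ f ⁻¹ᵁ V := by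
    intro x
    obtain ⟨W, hW, hxW, hWV⟩ := exists_isAffineOpen_mem_and_subset x.2
    exact ⟨W, hW, hxW, hWV⟩
  choose Wf hWf hxWf hWfV using hcov
  obtain ⟨t, ht⟩ := hcpt.elim_finite_subcover (fun x => (Wf x : Set X)) (fun x => (Wf x).isOpen)
    (fun x hx => Set.mem_iUnion.mpr ⟨⟨x, hx⟩, hxWf ⟨x, hx⟩⟩)
  obtain ⟨i, -, hi⟩ : ∃ i ∈ (t : Set _), {c : Pts X | c.pt ∈ Wf i} ∈ u :=
    (Ultrafilter.finite_biUnion_mem_iff t.finite_toSet).1 (mem_of_superset hcV fun c hc => by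
      obtain ⟨j, hj, hcj⟩ := Set.mem_iUnion₂.1 (ht hc)
      exact Set.mem_biUnion hj hcj)
  have hcW : ∀ᶠ c in (u : Filter (Pts X)), c.pt ∈ Wf i := hi
  have hW := hWf i
  have hWV := hWfV i
  revert hcW hW hWV
  generalize Wf i = W
  intro hcW hW hWV
  have hlimV : ∀ v : Γ(Y, V), Tendsto (fun c => evT W (f.appLE V W hWV v) c) u (𝓝 (evT V v y)) := fun v =>
    ((tendsto_evT v hyV).comp hy).congr' (hcW.mono fun c hc => evT_map f hWV hc v)
  obtain ⟨φy, hφy, rfl⟩ := exists_mkPt hV y hyV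
  let ψ : Γ(Y, V) →+* bdd u := ((germEv u W hcW).comp (f.appLE V W hWV).hom).codRestrict (bdd u).toSubring
    fun v => ⟨_, ‖evT V v (mkPt hV φy hφy)‖ + 1, ((hlimV v).norm.eventually (ge_mem_nhds (lt_add_one _))), rfl⟩
  obtain ⟨a, ha, H⟩ := exists_lift_pt f (bdd u) (st u) (st_surjective u) hV hW hWV (germEv u W hcW) ψ
    (fun v => rfl) φy hφy (fun v => by
      refine tendsto_nhds_unique (tendsto_st u (ψ v) _ rfl) ?_
      rw [← evT_of_fromSpec hV φy (mkPt hV φy hφy) rfl v]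
      exact hlimV v)
  refine ⟨a, ha, ?_⟩
  obtain ⟨_, ⟨W', hW', rfl⟩, haW', -⟩ :=
    X.isBasis_affineOpens.exists_subset_of_mem_open (Set.mem_univ a.pt) isOpen_univ
  obtain ⟨s, hθs, hsW', Hb⟩ := H W' hW' haW'
  have hcs : ∀ᶠ c in (u : Filter (Pts X)), c.pt ∈ X.basicOpen s := by
    have hne : ∀ᶠ c in (u : Filter (Pts X)), evT W s c ≠ 0 :=
      Ultrafilter.eventually_not.2 fun h => hθs (Germ.coe_eq.2 h)
    filter_upwards [hne, hcW] with c h1 h2
    rw [evT_eq h2] at h1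
    exact (mem_basicOpen_iff hW c h2 s).2 h1
  refine (tendsto_iff_evT (l := (u : Filter (Pts X))) (an := id) hW' haW').2 ⟨hcs.mono fun c hc => hsW' hc, fun b => ?_⟩
  obtain ⟨k, b', hb, o, ho, hoa⟩ := Hb b
  rw [← hoa]
  refine tendsto_st u o _ ?_
  refine mul_right_cancel₀ (pow_ne_zero k hθs) ?_
  rw [ho]
  change ((evT W' b : Pts X → ℂ) : Germ (u : Filter (Pts X)) ℂ) * ((evT W s : Pts X → ℂ) : Germ (u : Filter (Pts X)) ℂ) ^ k =
    ((evT W b' : Pts X → ℂ) : Germ (u : Filter (Pts X)) ℂ)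
  rw [← Germ.coe_pow, ← Germ.coe_mul]
  refine Germ.coe_eq.2 ?_
  filter_upwards [hcs, hcW] with c h1 h2
  have := congrArg (evHom c (X.basicOpen s) h1) hb
  rw [map_mul, map_pow] at this
  simp only [evHom_apply] at this
  rw [Pi.mul_apply, Pi.pow_apply, evT_eq (hsW' h1), evT_eq h2, evT_eq h2, ← ev_res c hsW' h1,
    ← ev_res c (X.basicOpen_le s) h1, ← ev_res c (X.basicOpen_le s) h1]
  exact this

variable [LocallyOfFiniteType (X ↘ SC)] [LocallyOfFiniteType (Y ↘ SC)]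

omit [Y.Over An.SC] [LocallyOfFiniteType (Y ↘ SC)] in
/-- A locally constructible set whose complex points form a closed set is closed. -/
theorem isClosed_of_pts {R : Set ↥X} (hR : IsLocallyConstructible R)
    (h : IsClosed (Pts.pt ⁻¹' R : Set (Pts X))) : IsClosed R := by
  rw [← closure_eq_iff_isClosed]
  refine subset_antisymm (fun x hx => ?_) subset_closure
  by_contra hxR
  obtain ⟨a, ha, haR⟩ := exists_pts_of_isLocallyConstructible
    ((isLocallyConstructible_of_isClosed isClosed_closure).inter (isLocallyConstructible_compl hR)) ⟨x, hx, hxR⟩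
  have := mem_closure_pts hR a ha
  rw [h.closure_eq] at this
  exact haR this

/-- A quasi-compact morphism with proper map of complex points is universally closed. -/
theorem universallyClosed_of_isProperMap [QuasiCompact f] (h : IsProperMap (Pts.map f)) :
    UniversallyClosed f := by
  refine UnivClosed.universallyClosed_of_affineSpace f fun n => ?_
  letI : (𝔸(ULift.{0} (Fin n); Y)).Over An.SC := ⟨(𝔸(ULift.{0} (Fin n); Y) ↘ Y) ≫ (Y ↘ An.SC)⟩
  haveI : (𝔸(ULift.{0} (Fin n); Y) ↘ Y).IsOver An.SC := ⟨rfl⟩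
  haveI : LocallyOfFiniteType (𝔸(ULift.{0} (Fin n); Y) ↘ An.SC) :=
    inferInstanceAs (LocallyOfFiniteType ((𝔸(ULift.{0} (Fin n); Y) ↘ Y) ≫ (Y ↘ An.SC)))
  set g : 𝔸(ULift.{0} (Fin n); Y) ⟶ Y := 𝔸(ULift.{0} (Fin n); Y) ↘ Y
  haveI : IsLocallyNoetherian (An.SC : Scheme.{0}) := inferInstanceAs (IsLocallyNoetherian (Spec (CommRingCat.of ℂ)))
  haveI : IsLocallyNoetherian (𝔸(ULift.{0} (Fin n); Y)) :=
    LocallyOfFiniteType.isLocallyNoetherian (𝔸(ULift.{0} (Fin n); Y) ↘ An.SC)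
  haveI := locallyOfFiniteType_hom f
  haveI : LocallyOfFinitePresentation (Limits.pullback.snd f g) :=
    LocallyOfFinitePresentation.iff_locallyOfFiniteType.2 inferInstance
  have hproper : IsClosedMap (Pts.map (Limits.pullback.snd f g)) := by
    refine IsProperMap.isClosedMap (isProperMap_iff_ultrafilter.2 ⟨Pts.continuous_map _, fun u z hz => ?_⟩)
    have h1 : Tendsto (Pts.map f) (u.map (Pts.map (Limits.pullback.fst f g)) : Filter (Pts X)) (𝓝 (Pts.map g z)) := by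
      rw [Ultrafilter.coe_map, tendsto_map'_iff,
        show Pts.map f ∘ Pts.map (Limits.pullback.fst f g) = Pts.map g ∘ Pts.map (Limits.pullback.snd f g) from
          funext fun w => Pts.map_pullback_condition f g w]
      exact ((Pts.continuous_map g).tendsto z).comp hz
    obtain ⟨x, hx, hux⟩ := h.ultrafilter_le_nhds_of_tendsto h1
    obtain ⟨w, hw1, hw2⟩ := exists_pullback_pt f g x z hx
    refine ⟨w, hw2, ?_⟩
    rw [(isInducing_pullback f g).nhds_eq_comap w, ← map_le_iff_le_comap, hw1, hw2, nhds_prod_eq]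
    exact Tendsto.prodMk hux hz
  intro C hC
  refine isClosed_of_pts (Scheme.Hom.isLocallyConstructible_image _ (isLocallyConstructible_of_isClosed hC)) ?_
  have : (Pts.pt ⁻¹' (Limits.pullback.snd f g '' C) : Set (Pts _)) =
      Pts.map (Limits.pullback.snd f g) '' (Pts.pt ⁻¹' C) := by
    refine subset_antisymm (fun b hb => ?_) ?_
    · obtain ⟨x, hxC, hx⟩ := hb
      obtain ⟨a, haC, ha⟩ := exists_pts_of_isLocallyClosed (C ∩ Limits.pullback.snd f g ⁻¹' {b.pt})
        ((hC.inter ((isClosed_pt b).preimage (Limits.pullback.snd f g).continuous)).isLocallyClosed) ⟨x, hxC, hx⟩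
      exact ⟨a, haC, pt_injective ((Pts.pt_map _ a).trans ha)⟩
    · rintro _ ⟨a, ha, rfl⟩
      exact ⟨a.pt, ha, (Pts.pt_map _ a).symm⟩
  rw [this]
  exact hproper _ (hC.preimage Pts.continuous_pt)

/-- Properness is detected on complex points. -/
theorem isProper_iff_isProperMap [QuasiCompact f] :
    IsProper f ↔ IsProperMap (Pts.map f) ∧ IsSeparatedMap (Pts.map f) := by
  constructor
  · intro _
    exact ⟨isProperMap_map f, (isSeparated_iff_isSeparatedMap f).1 inferInstance⟩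
  · rintro ⟨h1, h2⟩
    haveI := (isSeparated_iff_isSeparatedMap f).2 h2
    haveI := universallyClosed_of_isProperMap f h1
    haveI := locallyOfFiniteType_hom f
    exact {}

end Groth.Agent.AnBasic
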