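import Groth.Prelude.Def_AnPts
import Mathlib.AlgebraicGeometry.AlgClosed.Basic
import Mathlib.Analysis.Complex.Polynomial.Basic

/-!
# Complex points and closed points
-/

set_option autoImplicit false

open CategoryTheory AlgebraicGeometry Topology

namespace Groth.Agent.AnBasic

variable {X : Scheme.{0}} [X.Over An.SC] [LocallyOfFiniteType (X ↘ An.SC)]

/-- Complex points are determined by their underlying points. -/
theorem pt_injective : Function.Injective (An.Pts.pt (X := X)) := fun a b h => by
  apply Subtype.ext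
  refine ext_of_apply_closedPoint_eq (K := ℂ) (X ↘ An.SC) a.2 b.2 ?_
  rw [An.eq_cpt (IsLocalRing.closedPoint ℂ)]
  exact h

/-- The point underlying a complex point is closed. -/
theorem isClosed_pt (a : An.Pts X) : IsClosed ({a.pt} : Set ↥X) := by
  have := ((pointEquivClosedPoint (K := ℂ) (X ↘ An.SC)) ⟨a.1, a.2⟩).2
  have e : a.pt = a.1 (IsLocalRing.closedPoint ℂ) := by
    rw [An.eq_cpt (IsLocalRing.closedPoint ℂ)]; rfl
  rw [e]
  exact this

/-- Every closed point carries a complex point. -/
theorem exists_pts (x : ↥X) (hx : IsClosed ({x} : Set ↥X)) : ∃ a : An.Pts X, a.pt = x :=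
  ⟨⟨pointOfClosedPoint (X ↘ An.SC) x hx, pointOfClosedPoint_comp (X ↘ An.SC) x hx⟩,
    pointOfClosedPoint_apply (X ↘ An.SC) x hx _⟩

/-- A nonempty locally closed subset contains a complex point. -/
theorem exists_pts_of_isLocallyClosed (S : Set ↥X) (hS : IsLocallyClosed S) (hne : S.Nonempty) :
    ∃ a : An.Pts X, a.pt ∈ S := by
  haveI : JacobsonSpace ↥X := LocallyOfFiniteType.jacobsonSpace (X ↘ An.SC)
  obtain ⟨x, hxS, hx⟩ := nonempty_inter_closedPoints hne hS
  obtain ⟨a, rfl⟩ := exists_pts x hx
  exact ⟨a, hxS⟩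

end Groth.Agent.AnBasic
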