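import Groth.Agent.AnBasic.Product

/-!
# Separatedness on complex points
-/

set_option autoImplicit false

open CategoryTheory AlgebraicGeometry Topology TopologicalSpace Filter
open An

namespace Groth.Agent.AnBasic

variable {X Y : Scheme.{0}} [X.Over An.SC] [Y.Over An.SC] [LocallyOfFiniteType (X ↘ SC)]
  [LocallyOfFiniteType (Y ↘ SC)] (f : X ⟶ Y) [f.IsOver An.SC]

include f in
omit [LocallyOfFiniteType (Y ↘ SC)] in
lemma locallyOfFiniteType_hom : LocallyOfFiniteType f := by
  haveI : LocallyOfFiniteType (f ≫ (Y ↘ An.SC)) := by rw [comp_over f]; infer_instance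
  exact locallyOfFiniteType_of_comp f (Y ↘ An.SC)

instance locallyOfFiniteType_pullback {Z : Scheme.{0}} [Z.Over An.SC] [LocallyOfFiniteType (Z ↘ SC)]
    (g : Z ⟶ Y) [g.IsOver An.SC] : LocallyOfFiniteType (Limits.pullback f g ↘ SC) := by
  haveI := locallyOfFiniteType_hom g
  exact inferInstanceAs (LocallyOfFiniteType (Limits.pullback.fst f g ≫ (X ↘ SC)))

instance diagonal_isOver : (Limits.pullback.diagonal f).IsOver SC :=
  ⟨by
    change Limits.pullback.diagonal f ≫ Limits.pullback.fst f f ≫ (X ↘ SC) = X ↘ SC
    rw [← Category.assoc, Limits.pullback.diagonal_fst, Category.id_comp]⟩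

lemma range_map_diagonal : Set.range (Pts.map (Limits.pullback.diagonal f)) =
    {z | Pts.map (Limits.pullback.fst f f) z = Pts.map (Limits.pullback.snd f f) z} := by
  refine subset_antisymm ?_ fun z hz => ?_
  · rintro _ ⟨a, rfl⟩
    exact Subtype.ext (by simp)
  · have hz' : z.1 ≫ Limits.pullback.fst f f = z.1 ≫ Limits.pullback.snd f f := congrArg Subtype.val hz
    refine ⟨Pts.map (Limits.pullback.fst f f) z, Subtype.ext (Limits.pullback.hom_ext ?_ ?_)⟩
    · simp
    · simpa using hz'

/-- Separatedness is detected on complex points. -/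
theorem isSeparated_iff_isSeparatedMap : IsSeparated f ↔ IsSeparatedMap (Pts.map f) := by
  constructor
  · intro _ x₁ x₂ he hne
    obtain ⟨z, hz1, hz2⟩ := exists_pullback_pt f f x₁ x₂ he
    have hcl : IsClosed (Set.range (Pts.map (Limits.pullback.diagonal f))) := by
      rw [range_map]
      exact (Limits.pullback.diagonal f).isClosedEmbedding.isClosed_range.preimage Pts.continuous_pt
    have hz : z ∈ (Set.range (Pts.map (Limits.pullback.diagonal f)))ᶜ := by
      rw [range_map_diagonal]
      exact fun h => hne (hz1.symm.trans (h.trans hz2))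
    obtain ⟨O, hO, hOe⟩ := (isInducing_pullback f f).isOpen_iff.1 hcl.isOpen_compl
    have hzO : (x₁, x₂) ∈ O := by
      have := hOe.ge hz
      simpa [Set.mem_preimage, hz1, hz2] using this
    obtain ⟨u, v, hu, hv, h1, h2, huv⟩ := isOpen_prod_iff.1 hO x₁ x₂ hzO
    have hx : ∀ w : Pts X, ∀ w' : Pts X, Pts.map f w = Pts.map f w' → (w, w') ∈ O → w ≠ w' := by
      rintro w _ - hwO rfl
      obtain ⟨d, hd⟩ : ∃ d, Pts.map (Limits.pullback.diagonal f) w = d := ⟨_, rfl⟩
      have hdO : d ∈ (Set.range (Pts.map (Limits.pullback.diagonal f)))ᶜ := hOe.le (by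
        have e1 : Pts.map (Limits.pullback.fst f f) d = w := by subst hd; exact Subtype.ext (by simp)
        have e2 : Pts.map (Limits.pullback.snd f f) d = w := by subst hd; exact Subtype.ext (by simp)
        simpa [Set.mem_preimage, e1, e2] using hwO)
      exact hdO ⟨w, hd⟩
    refine ⟨u, v, hu, hv, h1, h2, Set.disjoint_left.2 fun w hwu hwv => ?_⟩
    exact hx w w rfl (huv ⟨hwu, hwv⟩) rfl
  · intro h
    haveI := locallyOfFiniteType_hom f
    have hcl : IsClosed {z : Pts (Limits.pullback f f) |
        Pts.map (Limits.pullback.fst f f) z = Pts.map (Limits.pullback.snd f f) z} :=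
      (isSeparatedMap_iff_isClosed_diagonal.1 h).preimage
        (f := fun z : Pts (Limits.pullback f f) => (⟨(_, _), Pts.map_pullback_condition f f z⟩ : (Pts.map f).Pullback (Pts.map f)))
        (((Pts.continuous_map _).prodMk (Pts.continuous_map _)).subtype_mk _)
    rw [← range_map_diagonal, range_map] at hcl
    refine ⟨IsClosedImmersion.of_isPreimmersion _ ?_⟩
    set R := Set.range (Limits.pullback.diagonal f)
    have hlc : IsLocallyClosed R := (Limits.pullback.diagonal f).isLocallyClosed_range
    haveI : IsLocallyNoetherian (An.SC : Scheme.{0}) := inferInstanceAs (IsLocallyNoetherian (Spec (CommRingCat.of ℂ)))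
    rw [← closure_eq_iff_isClosed]
    refine subset_antisymm (fun x hx => ?_) subset_closure
    by_contra hxR
    obtain ⟨U, Z, hU, hZ, hR⟩ := hlc
    have hR' : IsLocallyConstructible R := by
      have := (isLocallyConstructible_compl (isLocallyConstructible_of_isClosed hU.isClosed_compl)).inter
        (isLocallyConstructible_of_isClosed hZ)
      rwa [compl_compl, ← hR] at this
    obtain ⟨a, ha, haR⟩ := exists_pts_of_isLocallyConstructible
      ((isLocallyConstructible_of_isClosed isClosed_closure).inter (isLocallyConstructible_compl hR')) ⟨x, hx, hxR⟩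
    have := mem_closure_pts hR' a ha
    rw [hcl.closure_eq] at this
    exact haR this

end Groth.Agent.AnBasic
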