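import Groth.Agent.AnBasic.Connected

/-!
# A regular function with a continuous logarithm is constant
-/

set_option autoImplicit false

open Filter Topology
open scoped Polynomial

namespace Groth.Agent.AnBasic

/-- A polynomial of growth less than linear off a hypersurface is constant there. -/
lemma eval_eq_of_small {m : ℕ} (P G : MvPolynomial (Fin m) ℂ) (n : ℕ) (hn : 0 < n) (C : ℝ) (hC : 0 ≤ C)
    (hb : ∀ x, MvPolynomial.eval x G ≠ 0 → ‖MvPolynomial.eval x P‖ ^ n ≤ C * (1 + ‖x‖) ^ (n - 1))
    {x y : Fin m → ℂ} (hx : MvPolynomial.eval x G ≠ 0) :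
    MvPolynomial.eval x P = MvPolynomial.eval y P := by
  let line : MvPolynomial (Fin m) ℂ → Polynomial ℂ := fun Q =>
    MvPolynomial.aeval (fun i => Polynomial.C (x i) + Polynomial.X * Polynomial.C (y i - x i)) Q
  have hl : ∀ Q (t : ℂ), (line Q).eval t = MvPolynomial.eval (x + t • (y - x)) Q := fun Q t => by
    change (Polynomial.aeval t) (line Q) = _
    rw [← AlgHom.comp_apply, MvPolynomial.comp_aeval, ← MvPolynomial.aeval_eq_eval]
    refine congrArg (fun q => MvPolynomial.aeval q Q) (funext fun i => ?_)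
    simp
  have hG0 : line G ≠ 0 := fun h => hx (by simpa [h] using (hl G 0).symm)
  let q := line P
  have hfin := Polynomial.finite_setOfPred_isRoot hG0
  have hgrowth : ∀ t : ℂ, ‖(q ^ n).eval t‖ ≤ C * (1 + ‖x‖ + ‖y - x‖) ^ (n - 1) * (1 + ‖t‖) ^ (n - 1) := by
    intro t
    refine le_of_tendsto_of_tendsto (((q ^ n).continuous.norm.tendsto t).mono_left nhdsWithin_le_nhds)
      (((by fun_prop : Continuous fun t : ℂ => C * (1 + ‖x‖ + ‖y - x‖) ^ (n - 1) * (1 + ‖t‖) ^ (n - 1)).tendsto t).mono_left
        (nhdsWithin_le_nhds (s := {t}ᶜ))) ?_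
    filter_upwards [nhdsWithin_le_nhds ((hfin.diff (t := {t})).isClosed.isOpen_compl.mem_nhds (x := t) (by simp)),
      self_mem_nhdsWithin] with s hs hst
    have hsG : MvPolynomial.eval (x + s • (y - x)) G ≠ 0 := fun h => hs ⟨(hl G s).trans h, hst⟩
    rw [Polynomial.eval_pow, norm_pow, hl P s]
    refine (hb _ hsG).trans ?_
    rw [mul_assoc, ← mul_pow]
    refine mul_le_mul_of_nonneg_left (pow_le_pow_left₀ (by positivity) ?_ _) hC
    have := norm_add_le x (s • (y - x))
    rw [norm_smul] at this
    nlinarith [norm_nonneg s, norm_nonneg x, norm_nonneg (y - x)]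
  obtain ⟨r, hr, hre⟩ := exists_polynomial_of_growth (n - 1) (q ^ n).differentiable (by positivity) hgrowth
  have hrq : q ^ n = r := Polynomial.funext hre
  have hdeg : q.natDegree = 0 := by
    have h1 : n * q.natDegree ≤ n - 1 := by rw [← Polynomial.natDegree_pow, hrq]; exact hr
    rcases Nat.eq_zero_or_pos q.natDegree with h | h
    · exact h
    · have := Nat.le_mul_of_pos_right n h
      omega
  have h0 := hl P 0
  have h1 := hl P 1
  rw [Polynomial.eq_C_of_natDegree_eq_zero (show (line P).natDegree = 0 from hdeg)] at h0 h1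
  simp at h0 h1
  exact h0.symm.trans h1

open CategoryTheory AlgebraicGeometry TopologicalSpace An

variable {X : Scheme.{0}} [X.Over An.SC] [LocallyOfFiniteType (X ↘ An.SC)]

lemma continuous_evTop (u : Γ(X, ⊤)) : Continuous fun a : Pts X => a.evTop u :=
  continuous_iff_continuousAt.2 fun a => by
    have h : (fun c : Pts X => c.evTop u) = evT ⊤ u :=
      funext fun c => (evT_eq (V := ⊤) (show c.pt ∈ ⊤ from trivial) u).symm
    rw [h]
    exact tendsto_evT (V := ⊤) u (show a.pt ∈ ⊤ from trivial)

/-- A regular function with a continuous logarithm is constant on irreducible sets. -/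
theorem evTop_eq_of_log (η : ↥X) (u : Γ(X, ⊤)) (h : Pts X → ℂ) (hc : Continuous h)
    (he : ∀ a, Complex.exp (h a) = a.evTop u) :
    ∀ a ∈ (Pts.pt ⁻¹' closure ({η} : Set ↥X) : Set (Pts X)), ∀ b ∈ (Pts.pt ⁻¹' closure ({η} : Set ↥X) : Set (Pts X)),
      a.evTop u = b.evTop u := by
  classical
  obtain ⟨s, F, G, P, T, hF, hirr, hG, hsimple, hPc, himg, hTsub, hT, hsub, hdata⟩ := exists_param_closure η
  obtain ⟨⟨p, G₀, hform⟩, C, N, hC, hgrowth⟩ := hdata u
  have hd0 : 0 < F.natDegree := by
    by_contra h'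
    exact hirr.not_isUnit ((hF.natDegree_eq_zero.1 (by omega)) ▸ isUnit_one)
  let S := rootLocus F G
  have hS : IsPreconnected S := isPreconnected_rootLocus hF hirr hG hsimple
  let L : (Fin s → ℂ) × ℂ → ℂ := fun z => h (P z)
  have hLc : ContinuousOn L S := hc.comp_continuousOn hPc
  have hLe : ∀ z, Complex.exp (L z) = (P z).evTop u := fun z => he _
  let n := (2 * F.natDegree + 1) * (N + 1)
  have hn : 0 < n := Nat.mul_pos (Nat.succ_pos _) (Nat.succ_pos _)
  have hnC : (n : ℂ) ≠ 0 := Nat.cast_ne_zero.2 hn.ne'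
  let w : (Fin s → ℂ) × ℂ → ℂ := fun z => Complex.exp (L z / n)
  have hwn : ∀ z, w z ^ n = (P z).evTop u := fun z => by
    rw [← hLe]
    simp only [w]
    rw [← Complex.exp_nat_mul, mul_div_cancel₀ _ hnC]
  let R : (Fin s → ℂ) → Finset ℂ := fun x => (F.map (MvPolynomial.eval x)).roots.toFinset
  -- power sums
  have hsum : ∀ j ≤ 2 * F.natDegree, ∀ x y, MvPolynomial.eval x G ≠ 0 → MvPolynomial.eval y G ≠ 0 →
      ∑ t ∈ R x, w (x, t) ^ j = ∑ t ∈ R y, w (y, t) ^ j := by
    intro j hj
    have hjn : N * j ≤ n - 1 := by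
      have : N * j + 1 ≤ n := by simp only [n]; nlinarith [hj, Nat.zero_le N, Nat.zero_le j]
      omega
    have hb : ∀ x, MvPolynomial.eval x G ≠ 0 →
        ‖∑ t ∈ R x, w (x, t) ^ j‖ ^ n ≤ (F.natDegree : ℝ) ^ n * (1 + C) ^ j * (1 + ‖x‖) ^ (n - 1) := by
      intro x hx
      have hne : (R x).Nonempty := Finset.card_pos.1 (by rw [card_roots_map hF x (hsimple x hx)]; exact hd0)
      obtain ⟨t₀, ht₀, hmax⟩ := (R x).exists_max_image (fun t => ‖w (x, t)‖) hne
      have h1 : ‖∑ t ∈ R x, w (x, t) ^ j‖ ≤ (F.natDegree : ℝ) * ‖w (x, t₀)‖ ^ j := by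
        rw [← card_roots_map hF x (hsimple x hx), ← nsmul_eq_mul]
        refine (norm_sum_le _ _).trans (Finset.sum_le_card_nsmul _ _ _ fun t ht => ?_)
        rw [norm_pow]
        exact pow_le_pow_left₀ (norm_nonneg _) (hmax t ht) j
      refine (pow_le_pow_left₀ (norm_nonneg _) h1 n).trans ?_
      rw [mul_pow, mul_assoc]
      refine mul_le_mul_of_nonneg_left ?_ (by positivity)
      rw [← pow_mul, mul_comm j n, pow_mul, ← norm_pow, hwn]
      refine (pow_le_pow_left₀ (norm_nonneg _) (hgrowth (x, t₀) ⟨hx, (mem_roots_map hF x t₀).1 ht₀⟩) j).trans ?_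
      rw [mul_pow, ← pow_mul]
      exact mul_le_mul (pow_le_pow_left₀ hC (by linarith) j) (pow_le_pow_right₀ (by simp) hjn) (by positivity) (by positivity)
    obtain ⟨Q, hQ⟩ := exists_poly_extension G hG (fun x => ∑ t ∈ R x, w (x, t) ^ j) (fun x v hx => by
        obtain ⟨r, hlim, hev, hdiff⟩ := exists_local_roots hF hd0 hsimple x hx
        have hy : Tendsto (fun e : ℂ => x + e • v) (𝓝 0) (𝓝 x) := by
          have : Continuous fun e : ℂ => x + e • v := by fun_prop
          simpa using this.tendsto 0
        refine DifferentiableAt.congr_of_eventuallyEq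
          (f := fun e : ℂ => ∑ k, w (x + e • v, r (x + e • v) k) ^ j) ?_ ?_
        · refine DifferentiableAt.fun_sum fun k _ => DifferentiableAt.pow ?_ j
          let z : ℂ → (Fin s → ℂ) × ℂ := fun e => (x + e • v, r (x + e • v) k)
          have hzS : ∀ᶠ e in 𝓝 0, z e ∈ S := (hy.eventually hev).mono fun e he' => he'.1 k
          have hz0 : z 0 ∈ S := hzS.self_of_nhds
          have hzlim : Tendsto z (𝓝 0) (𝓝[S] z 0) := by
            refine tendsto_nhdsWithin_iff.2 ⟨?_, hzS⟩
            have hx0 : x + (0 : ℂ) • v = x := by simp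
            change Tendsto z (𝓝 0) (𝓝 (x + (0 : ℂ) • v, r (x + (0 : ℂ) • v) k))
            rw [hx0]
            exact hy.prodMk_nhds ((hlim k).comp hy)
          have hLlim : Tendsto (fun e => L (z e)) (𝓝 0) (𝓝 (L (z 0))) := (hLc _ hz0).tendsto.comp hzlim
          have hψ : DifferentiableAt ℂ (fun e => (P (z e)).evTop u) 0 := by
            have hev' : ∀ Q : MvPolynomial (Fin s) ℂ, DifferentiableAt ℂ (fun e : ℂ => MvPolynomial.eval (x + e • v) Q) 0 := fun Q => by
              induction Q using MvPolynomial.induction_on with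
              | C a => simp
              | add p q hp hq => simpa using hp.fun_add hq
              | mul_X p i hp => simpa using hp.fun_mul (by fun_prop : DifferentiableAt ℂ (fun e : ℂ => (x + e • v) i) 0)
            refine DifferentiableAt.congr_of_eventuallyEq (f := fun e =>
              (∑ i ∈ Finset.range (p.natDegree + 1), MvPolynomial.eval (x + e • v) (p.coeff i) * r (x + e • v) k ^ i) /
                MvPolynomial.eval (x + e • v) G₀) ?_ ?_
            · exact DifferentiableAt.fun_div (DifferentiableAt.fun_sum fun i _ => (hev' _).mul ((hdiff v k).pow i))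
                (hev' G₀) (hform _ hz0).1
            · filter_upwards [hzS] with e heS
              rw [(hform _ heS).2, Polynomial.eval_map, Polynomial.eval₂_eq_sum_range]
          have hne0 : (P (z 0)).evTop u ≠ 0 := by rw [← hLe]; exact Complex.exp_ne_zero _
          have hlog : DifferentiableAt ℂ (fun e => L (z 0) + Complex.log ((P (z e)).evTop u / (P (z 0)).evTop u)) 0 := by
            refine ((hψ.div_const _).clog ?_).const_add _
            rw [div_self hne0]
            exact Complex.one_mem_slitPlane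
          have hLd : DifferentiableAt ℂ (fun e => L (z e)) 0 := by
            refine hlog.congr_of_eventuallyEq ?_
            filter_upwards [hLlim.eventually (Metric.ball_mem_nhds _ one_pos)] with e he'
            have him : |(L (z e) - L (z 0)).im| < 1 :=
              (Complex.abs_im_le_norm _).trans_lt (mem_ball_iff_norm.1 he')
            rw [← hLe, ← hLe, ← Complex.exp_sub, Complex.log_exp (by linarith [(abs_lt.1 him).1, Real.two_le_pi])
              (by linarith [(abs_lt.1 him).2, Real.two_le_pi]), add_sub_cancel]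
          exact (hLd.div_const _).cexp
        · filter_upwards [hy.eventually hev] with e he'
          simp only [R]
          rw [he'.2.2, Finset.sum_image (fun a _ b _ hh => he'.2.1 hh)])
      (1 + (F.natDegree : ℝ) ^ n * (1 + C) ^ j) n (by positivity) fun x hx => by
        have h1 := hb x hx
        have h2 : ‖∑ t ∈ R x, w (x, t) ^ j‖ ≤ 1 + ‖∑ t ∈ R x, w (x, t) ^ j‖ ^ n := by
          rcases le_total ‖∑ t ∈ R x, w (x, t) ^ j‖ 1 with hh | hh
          · exact hh.trans (le_add_of_nonneg_right (by positivity))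
          · exact (le_self_pow₀ hh hn.ne').trans (le_add_of_nonneg_left zero_le_one)
        refine h2.trans ?_
        rw [add_mul, one_mul]
        exact add_le_add (one_le_pow₀ (by simp))
          (h1.trans (mul_le_mul_of_nonneg_left (pow_le_pow_right₀ (by simp) (Nat.sub_le n 1)) (by positivity)))
    intro x y hx hy
    rw [hQ x hx, hQ y hy]
    exact eval_eq_of_small Q G n hn ((F.natDegree : ℝ) ^ n * (1 + C) ^ j) (by positivity) (fun z hz => by rw [← hQ z hz]; exact hb z hz) hx
  -- finitely many values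
  obtain ⟨x₀, hx₀⟩ : ∃ x₀, MvPolynomial.eval x₀ G ≠ 0 := by
    by_contra h'
    push Not at h'
    exact hG (MvPolynomial.funext fun v => by simpa using h' v)
  let A₀ : Finset ℂ := (R x₀).image fun t => w (x₀, t)
  have hval : ∀ z ∈ S, w z ∈ A₀ := by
    rintro ⟨x, t⟩ ⟨hx, ht⟩
    by_contra hb
    let A : Finset ℂ := A₀ ∪ (R x).image fun t' => w (x, t')
    have hA : A.card ≤ 2 * F.natDegree := by
      refine (Finset.card_union_le _ _).trans ?_
      have e1 := (Finset.card_image_le (s := R x₀) (f := fun t => w (x₀, t))).trans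
        (card_roots_map hF x₀ (hsimple x₀ hx₀)).le
      have e2 := (Finset.card_image_le (s := R x) (f := fun t => w (x, t))).trans
        (card_roots_map hF x (hsimple x hx)).le
      change A₀.card + _ ≤ _
      simp only [A₀, R] at *
      omega
    let b := w (x, t)
    have hbA : b ∈ A := Finset.mem_union_right _ (Finset.mem_image_of_mem _ ((mem_roots_map hF x t).2 ht))
    let Pb := Lagrange.basis A id b
    have hdeg : Pb.natDegree < 2 * F.natDegree + 1 := by
      rw [Lagrange.natDegree_basis Function.injective_id.injOn hbA]; omega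
    have hsumP : ∀ y, ∑ t' ∈ R y, Pb.eval (w (y, t')) =
        ∑ m ∈ Finset.range (2 * F.natDegree + 1), Pb.coeff m * ∑ t' ∈ R y, w (y, t') ^ m := fun y => by
      simp only [Polynomial.eval_eq_sum_range' hdeg, Finset.mul_sum]
      exact Finset.sum_comm
    have heq : ∑ t' ∈ R x, Pb.eval (w (x, t')) = ∑ t' ∈ R x₀, Pb.eval (w (x₀, t')) := by
      rw [hsumP, hsumP]
      exact Finset.sum_congr rfl fun m hm => by rw [hsum m (Nat.lt_succ_iff.1 (Finset.mem_range.1 hm)) x x₀ hx hx₀]
    have hz : ∑ t' ∈ R x₀, Pb.eval (w (x₀, t')) = 0 := Finset.sum_eq_zero fun t' ht' => by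
      have hmem : w (x₀, t') ∈ A₀ := Finset.mem_image_of_mem _ ht'
      exact Lagrange.eval_basis_of_ne (v := id) (i := b) (fun hh => hb (by rw [show w (x, t) = w (x₀, t') from hh]; exact hmem)) (Finset.mem_union_left _ hmem)
    have hv : ∀ t' ∈ R x, Pb.eval (w (x, t')) = if w (x, t') = b then 1 else 0 := fun t' ht' => by
      have hmem : w (x, t') ∈ A := Finset.mem_union_right _ (Finset.mem_image_of_mem _ ht')
      split_ifs with hh
      · rw [hh]; exact Lagrange.eval_basis_self (v := id) Function.injective_id.injOn hbA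
      · exact Lagrange.eval_basis_of_ne (v := id) (i := b) (Ne.symm hh) hmem
    rw [hz, Finset.sum_congr rfl hv, Finset.sum_boole, Nat.cast_eq_zero, Finset.card_eq_zero,
      Finset.filter_eq_empty_iff] at heq
    exact heq ((mem_roots_map hF x t).2 ht) rfl
  haveI : Finite ↥(A₀ : Set ℂ) := A₀.finite_toSet.to_subtype
  have hwc : ContinuousOn w S := by
    simp only [w]
    exact (hLc.div_const _).cexp
  have hconstS : ∀ z ∈ S, ∀ z' ∈ S, (P z).evTop u = (P z').evTop u := fun z hz z' hz' => by
    rw [← hwn, ← hwn, hS.constant_of_mapsTo (T := (A₀ : Set ℂ)) A₀.finite_toSet.isDiscrete hwc hval hz hz']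
  -- extend to the closure
  obtain ⟨t₀, ht₀⟩ : (R x₀).Nonempty := Finset.card_pos.1 (by rw [card_roots_map hF x₀ (hsimple x₀ hx₀)]; exact hd0)
  have hall : ∀ a ∈ (Pts.pt ⁻¹' closure ({η} : Set ↥X) : Set (Pts X)), a.evTop u = (P (x₀, t₀)).evTop u := by
    intro a ha
    have hcl : IsClosed {c : Pts X | c.evTop u = (P (x₀, t₀)).evTop u} := isClosed_eq (continuous_evTop u) continuous_const
    refine closure_minimal ?_ hcl (mem_closure_pts hT a (hsub ha))
    rw [himg]
    rintro _ ⟨z, hz, rfl⟩
    exact hconstS z hz _ ⟨hx₀, (mem_roots_map hF x₀ t₀).1 ht₀⟩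
  exact fun a ha b hb => (hall a ha).trans (hall b hb).symm

end Groth.Agent.AnBasic
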